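import Mathlib

/-! Multisets of eight eigenvalues closed under `x ↦ x⁻¹` and `x ↦ x ^ q`: the possible orders. -/

set_option autoImplicit false

namespace CfsgLib.Spec8

/-- The pairs `(c, r)` for which `2 ^ c * r` is a maximal element order of `Sp₈(q)`, `q` even. -/
def topList (q : ℕ) : List (ℕ × ℕ) :=
  [(3, q - 1), (3, q + 1), (2, q ^ 2 - 1), (2, q ^ 2 + 1), (1, q ^ 3 - 1), (1, q ^ 3 + 1),
    (1, (q ^ 2 + 1) * (q - 1)), (1, (q ^ 2 + 1) * (q + 1)), (0, q ^ 4 - 1), (0, q ^ 4 + 1),
    (0, (q ^ 3 + 1) * (q - 1)), (0, (q ^ 3 - 1) * (q + 1))]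

/-- `q ^ d + 1` or `q ^ d - 1`. -/
def torOrd (q d : ℕ) (s : Bool) : ℕ := if s then q ^ d + 1 else q ^ d - 1

variable {K : Type*} [Field K]

/-- A block of conjugate eigenvalues through `x`. -/
structure Blk (q : ℕ) (m : K → ℕ) (x : K) (d : ℕ) (s : Bool) (B : Finset K) : Prop where
  one_le : 1 ≤ d
  le_four : d ≤ 4
  mem : x ∈ B
  card : B.card = 2 * d
  mult : ∀ y ∈ B, m y = m x
  root : ∀ y ∈ B, y ^ torOrd q d s = 1
  ne_one : ∀ y ∈ B, y ≠ 1
  frob : ∀ y ∈ B, y ^ q ∈ B
  inv : ∀ y ∈ B, y⁻¹ ∈ B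
  gen : ∀ y ∈ B, ∃ i, x = y ^ q ^ i ∨ x = (y ^ q ^ i)⁻¹

theorem exists_blk [CharP K 2] {q : ℕ} (hq : 1 ≤ q) {m : K → ℕ} (h0 : m 0 = 0)
    (hinv : ∀ x, m x⁻¹ = m x) (hfrob : ∀ x, m (x ^ q) = m x)
    (hinj : ∀ i, Function.Injective fun x : K => x ^ q ^ i)
    (hsum : ∀ s : Finset K, ∑ x ∈ s, m x ≤ 8) {x : K} (hx : 0 < m x) (hx1 : x ≠ 1) :
    ∃ d s B, Blk q m x d s B := by
  classical
  have hmi : ∀ i, m (x ^ q ^ i) = m x := by
    intro i; induction i with
    | zero => simp
    | succ i ih => rw [pow_succ, pow_mul, hfrob, ih]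
  have hxne : x ≠ 0 := fun h => by rw [h, h0] at hx; exact lt_irrefl _ hx
  have hx2 : x * x ≠ 1 := fun h => hx1 (by
    rcases mul_self_eq_one_iff.1 h with h | h
    · exact h
    · rwa [CharTwo.neg_eq] at h)
  have hper : ∃ p, 0 < p ∧ x ^ q ^ p = x := by
    by_contra hcon
    push Not at hcon
    have hinjf : Function.Injective fun i : ℕ => x ^ q ^ i := fun i j hij => by
      by_contra hne
      wlog h : i < j generalizing i j
      · exact this j i hij.symm (Ne.symm hne) (lt_of_le_of_ne (not_lt.1 h) (Ne.symm hne))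
      apply hcon (j - i) (by omega)
      apply hinj i
      show (x ^ q ^ (j - i)) ^ q ^ i = x ^ q ^ i
      rw [← pow_mul, ← pow_add, Nat.sub_add_cancel h.le]
      exact hij.symm
    have := hsum ((Finset.range 9).image fun i => x ^ q ^ i)
    rw [Finset.sum_image fun a _ b _ h => hinjf h, Finset.sum_congr rfl fun i _ => hmi i,
      Finset.sum_const, Finset.card_range, smul_eq_mul] at this
    omega
  let p := Nat.find hper
  obtain ⟨hp0, hp⟩ := Nat.find_spec hper
  have hdis : ∀ i < p, ∀ j < p, x ^ q ^ i = x ^ q ^ j → i = j := by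
    intro i hi j hj hij
    by_contra hne
    wlog h : i < j generalizing i j
    · exact this j hj i hi hij.symm (Ne.symm hne) (lt_of_le_of_ne (not_lt.1 h) (Ne.symm hne))
    refine Nat.find_min hper (show j - i < p by omega) ⟨by omega, ?_⟩
    apply hinj i
    show (x ^ q ^ (j - i)) ^ q ^ i = x ^ q ^ i
    rw [← pow_mul, ← pow_add, Nat.sub_add_cancel h.le]
    exact hij.symm
  let O := (Finset.range p).image fun i => x ^ q ^ i
  have hOcard : O.card = p := by
    rw [Finset.card_image_of_injOn fun a ha b hb h =>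
      hdis a (Finset.mem_range.1 ha) b (Finset.mem_range.1 hb) h, Finset.card_range]
  have hOfrob : ∀ y ∈ O, y ^ q ∈ O := by
    intro y hy
    obtain ⟨i, hi, rfl⟩ := Finset.mem_image.1 hy
    rw [Finset.mem_range] at hi
    rw [← pow_mul, ← pow_succ]
    by_cases h : i + 1 < p
    · exact Finset.mem_image.2 ⟨i + 1, Finset.mem_range.2 h, rfl⟩
    · exact Finset.mem_image.2 ⟨0, Finset.mem_range.2 hp0,
        by rw [show i + 1 = p by omega, pow_zero, pow_one]; exact hp.symm⟩
  have hx0 : x ∈ O := Finset.mem_image.2 ⟨0, Finset.mem_range.2 hp0, by simp⟩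
  have hOiter : ∀ i, x ^ q ^ i ∈ O := by
    intro i; induction i with
    | zero => simpa using hx0
    | succ i ih => rw [pow_succ, pow_mul]; exact hOfrob _ ih
  have hne1 : ∀ i, x ^ q ^ i ≠ 1 := fun i h => hx1 (hinj i (h.trans (one_pow _).symm))
  have htor : ∀ {d : ℕ} {s : Bool}, x ^ torOrd q d s = 1 → ∀ i,
      (x ^ q ^ i) ^ torOrd q d s = 1 ∧ ((x ^ q ^ i)⁻¹) ^ torOrd q d s = 1 := by
    intro d s h i
    have h1 : (x ^ q ^ i) ^ torOrd q d s = 1 := by rw [← pow_mul, mul_comm, pow_mul, h, one_pow]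
    exact ⟨h1, by rw [inv_pow, h1, inv_one]⟩
  have hback : ∀ i < p, (x ^ q ^ i) ^ q ^ (p - i) = x := fun i hi => by
    rw [← pow_mul, ← pow_add, Nat.add_sub_cancel' hi.le, hp]
  by_cases hxi : x⁻¹ ∈ O
  · obtain ⟨j, hj, hjx⟩ := Finset.mem_image.1 hxi
    rw [Finset.mem_range] at hj
    have h2j : x ^ q ^ (j + j) = x := by rw [pow_add, pow_mul, hjx, inv_pow, hjx, inv_inv]
    have hjne : j ≠ 0 := fun h => hx2 (by
      have hxe : x = x⁻¹ := by simpa [h] using hjx
      nth_rw 2 [hxe]
      exact mul_inv_cancel₀ hxne)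
    have hjp : p = 2 * j := by
      rcases lt_trichotomy (j + j) p with h | h | h
      · exact absurd ⟨by omega, h2j⟩ (Nat.find_min hper h)
      · omega
      · have : x ^ q ^ (j + j - p) = x := by
          conv_rhs => rw [← h2j]
          rw [show j + j = p + (j + j - p) by omega, pow_add q p, pow_mul, hp,
            show p + (j + j - p) - p = j + j - p by omega]
        exact absurd ⟨by omega, this⟩ (Nat.find_min hper (show j + j - p < p by omega))
    have hle : p ≤ 8 := by
      have := hsum O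
      rw [Finset.sum_congr rfl (g := fun _ => m x) (fun y hy => by
        obtain ⟨i, _, rfl⟩ := Finset.mem_image.1 hy; exact hmi i), Finset.sum_const, hOcard,
        smul_eq_mul] at this
      calc p = p * 1 := (mul_one p).symm
        _ ≤ p * m x := Nat.mul_le_mul_left p hx
        _ ≤ 8 := this
    have hroot : x ^ torOrd q j true = 1 := by
      simp only [torOrd, if_pos]
      rw [pow_succ, hjx, inv_mul_cancel₀ hxne]
    refine ⟨j, true, O, by omega, by omega, hx0, by omega, ?_, ?_, ?_, hOfrob, ?_, ?_⟩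
    · intro y hy; obtain ⟨i, _, rfl⟩ := Finset.mem_image.1 hy; exact hmi i
    · intro y hy; obtain ⟨i, _, rfl⟩ := Finset.mem_image.1 hy; exact (htor hroot i).1
    · intro y hy; obtain ⟨i, _, rfl⟩ := Finset.mem_image.1 hy; exact hne1 i
    · intro y hy
      obtain ⟨i, _, rfl⟩ := Finset.mem_image.1 hy
      rw [← inv_pow, ← hjx, ← pow_mul, ← pow_add]
      exact hOiter _
    · intro y hy
      obtain ⟨i, hi, rfl⟩ := Finset.mem_image.1 hy
      exact ⟨p - i, Or.inl (hback i (Finset.mem_range.1 hi)).symm⟩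
  · let O' := O.image fun y => y⁻¹
    have hdisj : Disjoint O O' := by
      rw [Finset.disjoint_left]
      intro y hy hy'
      obtain ⟨z, hz, rfl⟩ := Finset.mem_image.1 hy'
      obtain ⟨i, hi, rfl⟩ := Finset.mem_image.1 hz
      rw [Finset.mem_range] at hi
      obtain ⟨k, -, hk⟩ := Finset.mem_image.1 hy
      refine hxi ?_
      have : x⁻¹ = x ^ q ^ (k + (p - i)) := by
        rw [pow_add, pow_mul, hk, inv_pow, ← pow_mul, ← pow_add, Nat.add_sub_cancel' hi.le, hp]
      rw [this]
      exact hOiter _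
    have hcard : (O ∪ O').card = 2 * p := by
      rw [Finset.card_union_of_disjoint hdisj, Finset.card_image_of_injective _ inv_injective,
        hOcard, two_mul]
    have hmult : ∀ y ∈ O ∪ O', m y = m x := by
      intro y hy
      rcases Finset.mem_union.1 hy with hy | hy
      · obtain ⟨i, _, rfl⟩ := Finset.mem_image.1 hy; exact hmi i
      · obtain ⟨z, hz, rfl⟩ := Finset.mem_image.1 hy
        obtain ⟨i, _, rfl⟩ := Finset.mem_image.1 hz
        rw [hinv, hmi]
    have hle : 2 * p ≤ 8 := by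
      have := hsum (O ∪ O')
      rw [Finset.sum_congr rfl hmult, Finset.sum_const, hcard, smul_eq_mul] at this
      calc 2 * p = 2 * p * 1 := (mul_one _).symm
        _ ≤ 2 * p * m x := Nat.mul_le_mul_left _ hx
        _ ≤ 8 := this
    have hroot : x ^ torOrd q p false = 1 := by
      simp only [torOrd, Bool.false_eq_true, if_false]
      refine mul_left_cancel₀ hxne ?_
      rw [← pow_succ', Nat.sub_add_cancel (Nat.one_le_pow _ _ hq), hp, mul_one]
    refine ⟨p, false, O ∪ O', hp0, by omega, Finset.mem_union_left _ hx0, hcard, hmult, ?_, ?_,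
      ?_, ?_, ?_⟩
    · intro y hy
      rcases Finset.mem_union.1 hy with hy | hy
      · obtain ⟨i, _, rfl⟩ := Finset.mem_image.1 hy; exact (htor hroot i).1
      · obtain ⟨z, hz, rfl⟩ := Finset.mem_image.1 hy
        obtain ⟨i, _, rfl⟩ := Finset.mem_image.1 hz
        exact (htor hroot i).2
    · intro y hy
      rcases Finset.mem_union.1 hy with hy | hy
      · obtain ⟨i, _, rfl⟩ := Finset.mem_image.1 hy; exact hne1 i
      · obtain ⟨z, hz, rfl⟩ := Finset.mem_image.1 hy
        obtain ⟨i, _, rfl⟩ := Finset.mem_image.1 hz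
        exact fun h => hne1 i (inv_eq_one.1 h)
    · intro y hy
      rcases Finset.mem_union.1 hy with hy | hy
      · exact Finset.mem_union_left _ (hOfrob y hy)
      · obtain ⟨z, hz, rfl⟩ := Finset.mem_image.1 hy
        exact Finset.mem_union_right _ (Finset.mem_image.2 ⟨z ^ q, hOfrob z hz, (inv_pow z q).symm⟩)
    · intro y hy
      rcases Finset.mem_union.1 hy with hy | hy
      · exact Finset.mem_union_right _ (Finset.mem_image_of_mem _ hy)
      · obtain ⟨z, hz, rfl⟩ := Finset.mem_image.1 hy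
        rw [inv_inv]
        exact Finset.mem_union_left _ hz
    · intro y hy
      rcases Finset.mem_union.1 hy with hy | hy
      · obtain ⟨i, hi, rfl⟩ := Finset.mem_image.1 hy
        exact ⟨p - i, Or.inl (hback i (Finset.mem_range.1 hi)).symm⟩
      · obtain ⟨z, hz, rfl⟩ := Finset.mem_image.1 hy
        obtain ⟨i, hi, rfl⟩ := Finset.mem_image.1 hz
        exact ⟨p - i, Or.inr (by rw [inv_pow, hback i (Finset.mem_range.1 hi), inv_inv])⟩

theorem Blk.disjoint {q : ℕ} {m : K → ℕ} {x y : K} {d d' : ℕ} {s s' : Bool} {B B' : Finset K}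
    (h : Blk q m x d s B) (h' : Blk q m y d' s' B') (hy : y ∉ B) : Disjoint B B' := by
  rw [Finset.disjoint_left]
  intro z hz hz'
  have hiter : ∀ i, z ^ q ^ i ∈ B := by
    intro i; induction i with
    | zero => simpa using hz
    | succ i ih => rw [pow_succ, pow_mul]; exact h.frob _ ih
  obtain ⟨i, hi | hi⟩ := h'.gen z hz'
  · exact hy (hi ▸ hiter i)
  · exact hy (hi ▸ h.inv _ (hiter i))

/-- All orders are dominated by the maximal ones in `topList`. -/
theorem exists_top [CharP K 2] {q : ℕ} (hq : 1 ≤ q) {m : K → ℕ} (h0 : m 0 = 0)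
    (hinv : ∀ x, m x⁻¹ = m x) (hfrob : ∀ x, m (x ^ q) = m x)
    (hinj : ∀ i, Function.Injective fun x : K => x ^ q ^ i)
    (hsum : ∀ s : Finset K, ∑ x ∈ s, m x ≤ 8) :
    ∃ cr ∈ topList q, ∀ x, 0 < m x → x ^ cr.2 = 1 ∧ m x ≤ 2 ^ cr.1 := by
  classical
  have mk : ∀ cr : ℕ × ℕ, cr ∈ topList q → (∀ x, 0 < m x → x ^ cr.2 = 1 ∧ m x ≤ 2 ^ cr.1) →
      ∃ cr ∈ topList q, ∀ x, 0 < m x → x ^ cr.2 = 1 ∧ m x ≤ 2 ^ cr.1 := fun cr h1 h2 => ⟨cr, h1, h2⟩
  have mem : ∀ cr : ℕ × ℕ, (cr = (3, q - 1) ∨ cr = (3, q + 1) ∨ cr = (2, q ^ 2 - 1) ∨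
      cr = (2, q ^ 2 + 1) ∨ cr = (1, q ^ 3 - 1) ∨ cr = (1, q ^ 3 + 1) ∨
      cr = (1, (q ^ 2 + 1) * (q - 1)) ∨ cr = (1, (q ^ 2 + 1) * (q + 1)) ∨ cr = (0, q ^ 4 - 1) ∨
      cr = (0, q ^ 4 + 1) ∨ cr = (0, (q ^ 3 + 1) * (q - 1)) ∨ cr = (0, (q ^ 3 - 1) * (q + 1))) →
      cr ∈ topList q := fun cr h => by simpa [topList] using h
  have key : ∀ {x : K}, 0 < m x → x ≠ 1 → ∃ d s B, Blk q m x d s B := fun hx hx1 =>
    exists_blk hq h0 hinv hfrob hinj hsum hx hx1
  -- three sum bounds
  have s1 : ∀ {x z : K} {d : ℕ} {s : Bool} {B : Finset K}, Blk q m x d s B → z ∉ B →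
      2 * d * m x + m z ≤ 8 := by
    intro x z d s B h hz
    have := hsum (insert z B)
    rw [Finset.sum_insert hz, Finset.sum_congr rfl h.mult, Finset.sum_const, h.card,
      smul_eq_mul] at this
    omega
  have s2 : ∀ {x y z : K} {d d' : ℕ} {s s' : Bool} {B B' : Finset K}, Blk q m x d s B →
      Blk q m y d' s' B' → y ∉ B → z ∉ B → z ∉ B' → 2 * d * m x + 2 * d' * m y + m z ≤ 8 := by
    intro x y z d d' s s' B B' h h' hy hz hz'
    have := hsum (insert z (B ∪ B'))
    rw [Finset.sum_insert (by simp [hz, hz']), Finset.sum_union (h.disjoint h' hy),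
      Finset.sum_congr rfl h.mult, Finset.sum_congr rfl h'.mult, Finset.sum_const, Finset.sum_const,
      h.card, h'.card, smul_eq_mul, smul_eq_mul] at this
    omega
  have s3 : ∀ {x y w z : K} {d d' d'' : ℕ} {s s' s'' : Bool} {B B' B'' : Finset K},
      Blk q m x d s B → Blk q m y d' s' B' → Blk q m w d'' s'' B'' → y ∉ B → w ∉ B → w ∉ B' →
      z ∉ B → z ∉ B' → z ∉ B'' → 2 * d * m x + 2 * d' * m y + 2 * d'' * m w + m z ≤ 8 := by
    intro x y w z d d' d'' s s' s'' B B' B'' h h' h'' hy hw hw' hz hz' hz''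
    have := hsum (insert z (B ∪ B' ∪ B''))
    rw [Finset.sum_insert (by simp [hz, hz', hz'']),
      Finset.sum_union (Finset.disjoint_union_left.2 ⟨h.disjoint h'' hw, h'.disjoint h'' hw'⟩),
      Finset.sum_union (h.disjoint h' hy),
      Finset.sum_congr rfl h.mult, Finset.sum_congr rfl h'.mult, Finset.sum_congr rfl h''.mult,
      Finset.sum_const, Finset.sum_const, Finset.sum_const,
      h.card, h'.card, h''.card, smul_eq_mul, smul_eq_mul, smul_eq_mul] at this
    omega
  have tp : ∀ (d : ℕ), torOrd q d true = q ^ d + 1 := fun d => rfl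
  have tm : ∀ (d : ℕ), torOrd q d false = q ^ d - 1 := fun d => rfl
  have hdvd2 : ∀ s, torOrd q 1 s ∣ q ^ 2 - 1 := by
    intro s
    have : q ^ 2 - 1 = (q + 1) * (q - 1) := by
      simpa using Nat.sq_sub_sq q 1
    cases s
    · exact this ▸ ⟨q + 1, by simp [tm]; ring⟩
    · exact this ▸ ⟨q - 1, by simp [tp]⟩
  have h4 : q ^ 4 - 1 = (q ^ 2 + 1) * (q ^ 2 - 1) := by
    have h := Nat.sq_sub_sq (q ^ 2) 1
    rwa [one_pow, ← pow_mul, show 2 * 2 = 4 from rfl] at h
  have h24m : q ^ 2 - 1 ∣ q ^ 4 - 1 := h4 ▸ dvd_mul_left _ _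
  have h24p : q ^ 2 + 1 ∣ q ^ 4 - 1 := h4 ▸ dvd_mul_right _ _
  have h13 : q - 1 ∣ q ^ 3 - 1 := by simpa using Nat.sub_dvd_pow_sub_pow q 1 3
  have h13p : q + 1 ∣ q ^ 3 + 1 := by simpa using Odd.nat_add_dvd_pow_add_pow q 1 (⟨1, rfl⟩ : Odd 3)
  have pd : ∀ {z : K} {a b : ℕ}, a ∣ b → z ^ a = 1 → z ^ b = 1 := fun h hz => by
    obtain ⟨c, rfl⟩ := h; rw [pow_mul, hz, one_pow]
  by_cases h3 : ∃ x d s B, Blk q m x d s B ∧ 3 ≤ d ∧ 0 < m x
  · obtain ⟨x, d, s, B, hB, hd, hx⟩ := h3
    have hle := hB.le_four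
    by_cases hd4 : d = 4
    · subst hd4
      refine mk (0, torOrd q 4 s) (mem _ (by cases s <;> simp [tp, tm])) fun z hz => ?_
      by_cases hzB : z ∈ B
      · refine ⟨hB.root z hzB, ?_⟩
        obtain ⟨y, hy⟩ : ∃ y : Finset K, y = B := ⟨B, rfl⟩
        have := hsum B
        rw [Finset.sum_congr rfl hB.mult, Finset.sum_const, hB.card, smul_eq_mul] at this
        rw [hB.mult z hzB, pow_zero]; omega
      · have := s1 hB hzB
        omega
    · obtain rfl : d = 3 := by omega
      have hx1' : m x = 1 := by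
        have := hsum B
        rw [Finset.sum_congr rfl hB.mult, Finset.sum_const, hB.card, smul_eq_mul] at this
        omega
      by_cases hy : ∃ y, 0 < m y ∧ y ∉ B ∧ y ≠ 1
      · obtain ⟨y, hy, hyB, hy1⟩ := hy
        obtain ⟨d', s', B', hB'⟩ := key hy hy1
        have hd' := hB'.one_le
        have hrest : ∀ z, 0 < m z → z ∈ B ∨ z ∈ B' := fun z hz => by
          by_contra hc; push Not at hc
          have := s2 hB hB' hyB hc.1 hc.2
          nlinarith
        have hd1 : d' = 1 ∧ m y = 1 := by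
          have := s2 hB hB' hyB (z := 1) (fun h => hB.ne_one _ h rfl) (fun h => hB'.ne_one _ h rfl)
          have := Nat.mul_le_mul_left (2 * d') hy
          constructor
          · nlinarith
          · nlinarith
        obtain ⟨rfl, hy1'⟩ := hd1
        suffices h : ∀ r, q ^ 3 - 1 ∣ r ∨ s = true → q ^ 3 + 1 ∣ r ∨ s = false →
            q - 1 ∣ r ∨ s' = true → q + 1 ∣ r ∨ s' = false →
            ∀ z, 0 < m z → z ^ r = 1 ∧ m z ≤ 1 by
          cases s <;> cases s'
          · refine mk (1, q ^ 3 - 1) (mem _ (by simp)) fun z hz => ?_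
            obtain ⟨h1, h2⟩ := h _ (Or.inl dvd_rfl) (Or.inr rfl) (Or.inl h13) (Or.inr rfl) z hz
            exact ⟨h1, by simp; omega⟩
          · refine mk (0, (q ^ 3 - 1) * (q + 1)) (mem _ (by simp)) fun z hz => ?_
            exact h _ (Or.inl (dvd_mul_right _ _)) (Or.inr rfl) (Or.inr rfl)
              (Or.inl (dvd_mul_left _ _)) z hz
          · refine mk (0, (q ^ 3 + 1) * (q - 1)) (mem _ (by simp)) fun z hz => ?_
            exact h _ (Or.inr rfl) (Or.inl (dvd_mul_right _ _)) (Or.inl (dvd_mul_left _ _))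
              (Or.inr rfl) z hz
          · refine mk (1, q ^ 3 + 1) (mem _ (by simp)) fun z hz => ?_
            obtain ⟨h1, h2⟩ := h _ (Or.inr rfl) (Or.inl dvd_rfl) (Or.inr rfl) (Or.inl h13p) z hz
            exact ⟨h1, by simp; omega⟩
        intro r a1 a2 a3 a4 z hz
        rcases hrest z hz with hzB | hzB
        · refine ⟨?_, by rw [hB.mult z hzB]; omega⟩
          have := hB.root z hzB
          cases s
          · exact pd (by simpa [tm] using a1) this
          · exact pd (by simpa [tp] using a2) this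
        · refine ⟨?_, by rw [hB'.mult z hzB]; omega⟩
          have := hB'.root z hzB
          cases s'
          · exact pd (by simpa [tm] using a3) this
          · exact pd (by simpa [tp] using a4) this
      · push Not at hy
        refine mk (1, torOrd q 3 s) (mem _ (by cases s <;> simp [tp, tm])) fun z hz => ?_
        by_cases hzB : z ∈ B
        · exact ⟨hB.root z hzB, by rw [hB.mult z hzB]; simp; omega⟩
        · have := s1 hB hzB
          rw [hy z hz hzB, one_pow]
          exact ⟨rfl, by simp; rw [hy z hz hzB] at this; omega⟩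
  push Not at h3
  -- now every block has `d ≤ 2`
  have hle2 : ∀ {z : K}, 0 < m z → z ≠ 1 → ∃ d s B, Blk q m z d s B ∧ (d = 1 ∨ d = 2) := by
    intro z hz hz1
    obtain ⟨d, s, B, hB⟩ := key hz hz1
    refine ⟨d, s, B, hB, ?_⟩
    have := hB.one_le
    by_contra hc
    exact absurd hz (not_lt.2 (h3 z d s B hB (by omega)))
  by_cases hneg : ∃ x B, Blk q m x 2 true B ∧ 0 < m x
  · obtain ⟨x, B, hB, hx⟩ := hneg
    have hxm : ∀ {z}, z ∈ B → z ^ (q ^ 2 + 1) = 1 ∧ m z ≤ 2 := by
      intro z hz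
      refine ⟨hB.root z hz, ?_⟩
      have := hsum B
      rw [Finset.sum_congr rfl hB.mult, Finset.sum_const, hB.card, smul_eq_mul] at this
      rw [hB.mult z hz]; omega
    by_cases hy : ∃ y, 0 < m y ∧ y ^ (q ^ 2 + 1) ≠ 1
    · obtain ⟨y, hy, hy2⟩ := hy
      have hyB : y ∉ B := fun h => hy2 (hxm h).1
      have hy1 : y ≠ 1 := fun h => hy2 (by rw [h, one_pow])
      obtain ⟨d', s', B', hB', hd'⟩ := hle2 hy hy1
      have o1 : (1 : K) ∉ B := fun h => hB.ne_one _ h rfl
      have o1' : (1 : K) ∉ B' := fun h => hB'.ne_one _ h rfl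
      rcases hd' with rfl | rfl
      · by_cases hw : ∃ w, 0 < m w ∧ w ^ ((q ^ 2 + 1) * torOrd q 1 s') ≠ 1
        · obtain ⟨w, hw, hw2⟩ := hw
          have hwB : w ∉ B := fun h => hw2 (pd (dvd_mul_right _ _) (hxm h).1)
          have hwB' : w ∉ B' := fun h => hw2 (pd (dvd_mul_left _ _) (hB'.root w h))
          have hw1 : w ≠ 1 := fun h => hw2 (by rw [h, one_pow])
          obtain ⟨d'', s'', B'', hB'', hd''⟩ := hle2 hw hw1
          have hrest : ∀ z, 0 < m z → z ∈ B ∨ z ∈ B' ∨ z ∈ B'' := fun z hz => by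
            by_contra hc; push Not at hc
            have := s3 hB hB' hB'' hyB hwB hwB' hc.1 hc.2.1 hc.2.2
            rcases hd'' with rfl | rfl <;> omega
          have hb := s3 hB hB' hB'' hyB hwB hwB' o1 o1' (fun h => hB''.ne_one _ h rfl)
          obtain rfl : d'' = 1 := by rcases hd'' with rfl | rfl <;> omega
          refine mk (0, q ^ 4 - 1) (mem _ (by simp)) fun z hz => ?_
          rcases hrest z hz with h | h | h
          · exact ⟨pd h24p (hxm h).1, by rw [hB.mult z h]; simp; omega⟩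
          · exact ⟨pd ((hdvd2 s').trans h24m) (hB'.root z h), by rw [hB'.mult z h]; simp; omega⟩
          · exact ⟨pd ((hdvd2 s'').trans h24m) (hB''.root z h),
              by rw [hB''.mult z h]; simp; omega⟩
        · push Not at hw
          have hb := s2 hB hB' hyB o1 o1'
          refine mk (1, (q ^ 2 + 1) * torOrd q 1 s') (mem _ (by cases s' <;> simp [tp, tm]))
            fun z hz => ⟨hw z hz, ?_⟩
          simp only [pow_one]
          by_cases hzB : z ∈ B
          · exact (hxm hzB).2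
          by_cases hzB' : z ∈ B'
          · rw [hB'.mult z hzB']; omega
          have := s2 hB hB' hyB hzB hzB'
          omega
      · have hs' : s' = false := by
          by_contra h
          simp only [Bool.not_eq_false] at h
          exact hy2 (by have := hB'.root y hB'.mem; simpa [h, tp] using this)
        subst hs'
        refine mk (0, q ^ 4 - 1) (mem _ (by simp)) fun z hz => ?_
        by_cases hzB : z ∈ B
        · exact ⟨pd h24p (hxm hzB).1, by
            have := s2 hB hB' hyB o1 o1'; rw [hB.mult z hzB]; simp; omega⟩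
        by_cases hzB' : z ∈ B'
        · exact ⟨pd (by simpa [tm] using h24m) (hB'.root z hzB'), by
            have := s2 hB hB' hyB o1 o1'; rw [hB'.mult z hzB']; simp; omega⟩
        have := s2 hB hB' hyB hzB hzB'
        omega
    · push Not at hy
      refine mk (2, q ^ 2 + 1) (mem _ (by simp)) fun z hz => ⟨hy z hz, ?_⟩
      by_cases hzB : z ∈ B
      · have := (hxm hzB).2; simp; omega
      · have := s1 hB hzB; simp; omega
  push Not at hneg
  have hall : ∀ z, 0 < m z → z ^ (q ^ 2 - 1) = 1 := by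
    intro z hz
    by_cases hz1 : z = 1
    · rw [hz1, one_pow]
    obtain ⟨d, s, B, hB, hd⟩ := hle2 hz hz1
    rcases hd with rfl | rfl
    · exact pd (hdvd2 s) (hB.root z hB.mem)
    · cases s
      · simpa [tm] using hB.root z hB.mem
      · exact absurd hz (not_lt.2 (hneg z B hB))
  by_cases hm1 : m 1 ≤ 4
  · refine mk (2, q ^ 2 - 1) (mem _ (by simp)) fun z hz => ⟨hall z hz, ?_⟩
    by_cases hz1 : z = 1
    · subst hz1; simpa using hm1
    obtain ⟨d, s, B, hB⟩ := key hz hz1
    have h1 := hB.one_le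
    have := hsum B
    rw [Finset.sum_congr rfl hB.mult, Finset.sum_const, hB.card, smul_eq_mul] at this
    have : 2 * 1 * m z ≤ 2 * d * m z := Nat.mul_le_mul_right _ (by omega)
    simp; omega
  by_cases hx : ∃ x, 0 < m x ∧ x ≠ 1
  · obtain ⟨x, hx, hx1⟩ := hx
    obtain ⟨d, s, B, hB, hd⟩ := hle2 hx hx1
    have o1 : (1 : K) ∉ B := fun h => hB.ne_one _ h rfl
    have hb := s1 hB o1
    obtain rfl : d = 1 := by rcases hd with rfl | rfl <;> omega
    refine mk (3, torOrd q 1 s) (mem _ (by cases s <;> simp [tp, tm])) fun z hz => ?_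
    have h8 : m z ≤ 8 := by simpa using hsum {z}
    refine ⟨?_, by simpa using h8⟩
    by_cases hzB : z ∈ B
    · exact hB.root z hzB
    by_cases hz1 : z = 1
    · rw [hz1, one_pow]
    obtain ⟨d', s', B', hB'⟩ := key hz hz1
    have := s2 hB hB' hzB o1 (fun h => hB'.ne_one _ h rfl)
    have h1 := Nat.mul_le_mul (Nat.mul_le_mul_left 2 hB'.one_le) hz
    omega
  · push Not at hx
    refine mk (3, q - 1) (mem _ (by simp)) fun z hz => ?_
    have h8 : m z ≤ 8 := by simpa using hsum {z}
    exact ⟨by rw [hx z hz, one_pow], by simpa using h8⟩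

end CfsgLib.Spec8
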