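import Cfsg.Agent.Lib.Spec8.Gauss
import Cfsg.Agent.Lib.Spec8.Root

/-! Orthogonal blocks carrying cyclic tori of orders `q ^ d ± 1`, and unipotent maps. -/

set_option autoImplicit false

namespace CfsgLib.Spec8

open QuadraticMap CfsgLib.Geometry

variable {F : Type*} [Field F]

/-- An isometry of prescribed order on a form with prescribed invariants. -/
def HasTorus (φ : F →+ ZMod 2) (dim : ℕ) (G : ℤ) (r : ℕ) : Prop :=
  ∃ (X : Type) (_ : AddCommGroup X) (_ : Module F X) (_ : Fintype X) (_ : FiniteDimensional F X)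
    (Q : QuadraticForm F X), (polarBilin Q).Nondegenerate ∧ Module.finrank F X = dim ∧
      gauss φ ⇑Q = G ∧ ∃ g : X ≃ₗ[F] X, g ∈ orth Q ∧ orderOf g = r

/-- A bilinear map as a quadratic map. -/
noncomputable def qOf {X : Type*} [AddCommGroup X] [Module F X] (B : X →ₗ[F] X →ₗ[F] F) :
    QuadraticForm F X :=
  LinearMap.BilinMap.toQuadraticMap B

theorem qOf_apply {X : Type*} [AddCommGroup X] [Module F X] (B : X →ₗ[F] X →ₗ[F] F) (x : X) :
    qOf B x = B x x := rfl

theorem nondeg_prod {X Y : Type*} [AddCommGroup X] [Module F X] [AddCommGroup Y] [Module F Y]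
    {Q : QuadraticForm F X} {R : QuadraticForm F Y} (hQ : (polarBilin Q).Nondegenerate)
    (hR : (polarBilin R).Nondegenerate) :
    (polarBilin (Q.prod R)).Nondegenerate := by
  have hp : ∀ u v : X × Y, polar (Q.prod R) u v = polar Q u.1 v.1 + polar R u.2 v.2 := fun u v => by
    simp only [polar, QuadraticMap.prod_apply, Prod.fst_add, Prod.snd_add]; ring
  constructor <;> intro u hu <;> refine Prod.ext ?_ ?_
  · exact hQ.1 _ fun y => by
      have := hu (y, 0); rw [polarBilin_apply_apply, hp] at this; simpa using this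
  · exact hR.1 _ fun y => by
      have := hu (0, y); rw [polarBilin_apply_apply, hp] at this; simpa using this
  · exact hQ.2 _ fun y => by
      have := hu (y, 0); rw [polarBilin_apply_apply, hp] at this; simpa using this
  · exact hR.2 _ fun y => by
      have := hu (0, y); rw [polarBilin_apply_apply, hp] at this; simpa using this

theorem gauss_qprod (φ : F →+ ZMod 2) {X Y : Type*} [AddCommGroup X] [Module F X] [Fintype X]
    [AddCommGroup Y] [Module F Y] [Fintype Y] (Q : QuadraticForm F X) (R : QuadraticForm F Y) :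
    gauss φ ⇑(Q.prod R) = gauss φ ⇑Q * gauss φ ⇑R := by
  rw [← gauss_prod φ ⇑Q ⇑R]
  exact congrArg (gauss φ) (funext fun p => QuadraticMap.prod_apply Q R p)

/-- `g × h` on a product. -/
def prodMap {X Y : Type*} [AddCommGroup X] [Module F X] [AddCommGroup Y] [Module F Y] :
    (X ≃ₗ[F] X) × (Y ≃ₗ[F] Y) →* ((X × Y) ≃ₗ[F] (X × Y)) where
  toFun p := p.1.prodCongr p.2
  map_one' := LinearEquiv.ext fun _ => rfl
  map_mul' _ _ := LinearEquiv.ext fun _ => rfl

theorem prodMap_injective {X Y : Type*} [AddCommGroup X] [Module F X] [AddCommGroup Y] [Module F Y] :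
    Function.Injective (prodMap (F := F) (X := X) (Y := Y)) := by
  rintro ⟨g, h⟩ ⟨g', h'⟩ he
  refine Prod.ext (LinearEquiv.ext fun x => ?_) (LinearEquiv.ext fun y => ?_)
  · exact congrArg Prod.fst (LinearEquiv.congr_fun he (x, 0))
  · exact congrArg Prod.snd (LinearEquiv.congr_fun he (0, y))

theorem prodMap_mem {X Y : Type*} [AddCommGroup X] [Module F X] [AddCommGroup Y] [Module F Y]
    {Q : QuadraticForm F X} {R : QuadraticForm F Y} {g : X ≃ₗ[F] X} {h : Y ≃ₗ[F] Y}
    (hg : g ∈ orth Q) (hh : h ∈ orth R) : prodMap (g, h) ∈ orth (Q.prod R) := fun v => by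
  show (Q.prod R) (g v.1, h v.2) = _
  rw [QuadraticMap.prod_apply, QuadraticMap.prod_apply, mem_orth.1 hg, mem_orth.1 hh]

theorem HasTorus.prod {φ : F →+ ZMod 2} {n m : ℕ} {G H : ℤ} {r s : ℕ} (h : HasTorus φ n G r)
    (h' : HasTorus φ m H s) : HasTorus φ (n + m) (G * H) (Nat.lcm r s) := by
  obtain ⟨X, _, _, _, _, Q, hQ, hn, hG, g, hg, hr⟩ := h
  obtain ⟨Y, _, _, _, _, R, hR, hm, hH, k, hk, hs⟩ := h'
  refine ⟨X × Y, inferInstance, inferInstance, inferInstance, inferInstance, Q.prod R,
    nondeg_prod hQ hR, by rw [Module.finrank_prod, hn, hm], by rw [gauss_qprod, hG, hH],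
    prodMap (g, k), prodMap_mem hg hk, ?_⟩
  rw [orderOf_injective prodMap prodMap_injective, Prod.orderOf, hr, hs]

theorem HasTorus.mono {φ : F →+ ZMod 2} {n : ℕ} {G : ℤ} {r r' : ℕ} (h : HasTorus φ n G r)
    (hr : r' ∣ r) (hr0 : r ≠ 0) : HasTorus φ n G r' := by
  obtain ⟨X, _, _, _, _, Q, hQ, hn, hG, g, hg, hgr⟩ := h
  refine ⟨X, inferInstance, inferInstance, inferInstance, inferInstance, Q, hQ, hn, hG,
    g ^ (r / r'), pow_mem hg _, ?_⟩
  have hr' : r' ≠ 0 := fun h => hr0 (zero_dvd_iff.1 (h ▸ hr))
  rw [orderOf_pow_of_dvd (Nat.div_ne_zero_iff_of_dvd hr |>.2 ⟨hr0, hr'⟩)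
    (by rw [hgr]; exact Nat.div_dvd_of_dvd hr), hgr, Nat.div_div_self hr hr0]

variable [Fintype F] [CharP F 2]

/-- The split torus block of order `q ^ d - 1` on the hyperbolic space `K × K`. -/
theorem hasTorus_split {φ : F →+ ZMod 2} (hφ : φ ≠ 0) (d : ℕ) [NeZero d] :
    HasTorus φ (2 * d) ((Fintype.card F : ℤ) ^ d) (Fintype.card F ^ d - 1) := by
  haveI : Fact (Nat.Prime 2) := ⟨Nat.prime_two⟩
  let K := FiniteField.Extension F 2 d
  letI : Fintype K := Fintype.ofFinite K
  haveI : CharP K 2 := charP_of_injective_algebraMap (algebraMap F K).injective 2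
  have hK : Fintype.card K = Fintype.card F ^ d := by
    rw [Fintype.card_eq_nat_card, FiniteField.natCard_extension, Fintype.card_eq_nat_card]
  let T := Algebra.trace F K
  let B : (K × K) →ₗ[F] (K × K) →ₗ[F] F :=
    ((LinearMap.mul F K).compl₁₂ (LinearMap.fst F K K) (LinearMap.snd F K K)).compr₂ T
  have hB : ∀ p, qOf B p = T (p.1 * p.2) := fun p => rfl
  have hpol : ∀ p p' : K × K, polar (qOf B) p p' = T (p.1 * p'.2) + T (p'.1 * p.2) := fun p p' => by
    simp only [polar, hB, Prod.fst_add, Prod.snd_add, add_mul, mul_add, map_add]; ring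
  have hT : ∀ x : K, (∀ y, T (x * y) = 0) → x = 0 := fun x h => by
    by_contra hx
    obtain ⟨a, ha⟩ := Algebra.trace_surjective F K 1
    have := h (x⁻¹ * a)
    rw [← mul_assoc, mul_inv_cancel₀ hx, one_mul, ha] at this
    exact one_ne_zero this
  have hnd : (polarBilin (qOf B)).Nondegenerate := by
    constructor <;> intro u hu <;> refine Prod.ext ?_ ?_
    · exact hT _ fun y => by simpa [hpol] using hu (0, y)
    · exact hT _ fun y => by simpa [hpol, mul_comm] using hu (y, 0)
    · exact hT _ fun y => by simpa [hpol] using hu (0, y)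
    · exact hT _ fun y => by simpa [hpol, mul_comm] using hu (y, 0)
  let φ' : K →+ ZMod 2 := φ.comp T.toAddMonoidHom
  have hφ' : φ' ≠ 0 := fun h => hφ (AddMonoidHom.ext fun x => by
    obtain ⟨a, rfl⟩ := Algebra.trace_surjective F K x
    exact DFunLike.congr_fun h a)
  have hG : gauss φ ⇑(qOf B) = (Fintype.card F : ℤ) ^ d := by
    have h := gauss_mul hφ'
    rw [hK, Nat.cast_pow] at h
    rw [← h]
    rfl
  obtain ⟨u, hu⟩ := IsCyclic.exists_generator (α := Kˣ)
  have hou : orderOf u = Fintype.card F ^ d - 1 := by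
    rw [orderOf_eq_card_of_forall_mem_zpowers hu, Nat.card_units, Nat.card_eq_fintype_card, hK]
  let m : Kˣ →* ((K × K) ≃ₗ[F] (K × K)) :=
    { toFun := fun a => (LinearEquiv.ofLinear (LinearMap.mulLeft F (a : K)) (LinearMap.mulLeft F (↑a⁻¹ : K))
          (LinearMap.ext fun x => by simp) (LinearMap.ext fun x => by simp)).prodCongr
        (LinearEquiv.ofLinear (LinearMap.mulLeft F (↑a⁻¹ : K)) (LinearMap.mulLeft F (a : K))
          (LinearMap.ext fun x => by simp) (LinearMap.ext fun x => by simp))
      map_one' := LinearEquiv.ext fun x => by simp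
      map_mul' := fun a b => LinearEquiv.ext fun x => by simp [mul_comm, mul_left_comm] }
  have hm : ∀ (a : Kˣ) x, m a x = ((a : K) * x.1, (↑a⁻¹ : K) * x.2) := fun a x => rfl
  have hminj : Function.Injective m := fun a b h => Units.ext (by
    simpa [hm] using congrArg Prod.fst (LinearEquiv.congr_fun h (1, 0)))
  refine ⟨K × K, inferInstance, inferInstance, inferInstance, inferInstance, qOf B, hnd, ?_, hG,
    m u, fun x => ?_, by rw [orderOf_injective m hminj, hou]⟩
  · rw [Module.finrank_prod, FiniteField.finrank_extension, two_mul]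
  · rw [hB, hB, hm]
    exact congrArg T (by rw [mul_mul_mul_comm, Units.mul_inv, one_mul])

/-- The nonsplit torus block of order `q ^ d + 1`. -/
theorem hasTorus_nonsplit {φ : F →+ ZMod 2} (hφ : φ ≠ 0) (d : ℕ) [NeZero d] :
    HasTorus φ (2 * d) (-(Fintype.card F : ℤ) ^ d) (Fintype.card F ^ d + 1) := by
  haveI : Fact (Nat.Prime 2) := ⟨Nat.prime_two⟩
  let K := FiniteField.Extension F 2 d
  letI : Fintype K := Fintype.ofFinite K
  haveI : CharP K 2 := charP_of_injective_algebraMap (algebraMap F K).injective 2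
  let L := FiniteField.Extension K 2 2
  letI : Fintype L := Fintype.ofFinite L
  haveI : CharP L 2 := charP_of_injective_algebraMap (algebraMap K L).injective 2
  letI : Algebra F L := ((algebraMap K L).comp (algebraMap F K)).toAlgebra
  haveI : IsScalarTower F K L := IsScalarTower.of_algebraMap_eq fun x => rfl
  haveI : Module.Finite F L := Module.Finite.of_finite
  have hK : Fintype.card K = Fintype.card F ^ d := by
    rw [Fintype.card_eq_nat_card, FiniteField.natCard_extension, Fintype.card_eq_nat_card]
  set r := Fintype.card K with hr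
  have hL : Fintype.card L = r ^ 2 := by
    rw [hr, Fintype.card_eq_nat_card, FiniteField.natCard_extension, Fintype.card_eq_nat_card]
  have hr2 : 2 ≤ r := Fintype.one_lt_card
  let σ : L →ₐ[K] L := FiniteField.frobeniusAlgHom K L
  have hσ : ∀ x, σ x = x ^ r := fun x => by simp only [σ, FiniteField.coe_frobeniusAlgHom, hr]
  have hσσ : ∀ x : L, σ (σ x) = x := fun x => by
    rw [hσ, hσ, ← pow_mul, ← pow_two, ← hL, FiniteField.pow_card]
  obtain ⟨c, hc⟩ := Algebra.trace_surjective K L 1
  have hfix : ∀ t : L, σ t = t → ∃ s : K, algebraMap K L s = t := by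
    intro t ht
    have h0 : (Polynomial.X ^ r - Polynomial.X : Polynomial L).IsRoot t := by
      simp [← hσ, ht]
    classical
    by_contra hne
    push Not at hne
    have hsub : insert t (Finset.univ.image (algebraMap K L)) ⊆
        (Polynomial.X ^ r - Polynomial.X : Polynomial L).roots.toFinset := by
      intro x hx
      rw [Multiset.mem_toFinset, Polynomial.mem_roots (FiniteField.X_pow_card_sub_X_ne_zero L hr2)]
      rcases Finset.mem_insert.1 hx with rfl | hx
      · exact h0
      · obtain ⟨s, _, rfl⟩ := Finset.mem_image.1 hx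
        simp [← map_pow, hr, FiniteField.pow_card]
    have h1 := (Finset.card_le_card hsub).trans (Multiset.toFinset_card_le _)
    have h2 := (h1.trans (Polynomial.card_roots' _))
    rw [FiniteField.X_pow_card_sub_X_natDegree_eq L hr2, Finset.card_insert_of_notMem (by
      intro h; obtain ⟨s, _, hs⟩ := Finset.mem_image.1 h; exact hne s hs),
      Finset.card_image_of_injective _ (algebraMap K L).injective, Finset.card_univ] at h2
    omega
  let N : L →ₗ[K] L →ₗ[K] K :=
    ((LinearMap.mul K L).compl₁₂ (LinearMap.mulLeft K c) σ.toLinearMap).compr₂ (Algebra.trace K L)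
  have hN : ∀ x y, N x y = Algebra.trace K L (c * x * σ y) := fun x y => rfl
  have hNN : ∀ x, algebraMap K L (N x x) = x * σ x := by
    intro x
    obtain ⟨s, hs⟩ := hfix (x * σ x) (by rw [map_mul, hσσ, mul_comm])
    rw [hN, mul_assoc, ← hs, mul_comm, ← Algebra.smul_def, map_smul, hc, smul_eq_mul, mul_one]
  let T := Algebra.trace F K
  let B : L →ₗ[F] L →ₗ[F] F :=
    LinearMap.mk₂ F (fun x y => T (N x y)) (fun x y z => by simp) (fun a x y => by
        rw [← algebraMap_smul K a x, map_smul, LinearMap.smul_apply, algebraMap_smul, map_smul])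
      (fun x y z => by simp) (fun a x y => by
        rw [← algebraMap_smul K a y, map_smul, algebraMap_smul, map_smul])
  have hB : ∀ x, qOf B x = T (N x x) := fun x => rfl
  let σF : L ≃ₐ[K] L := AlgEquiv.ofBijective σ
    ((Finite.injective_iff_bijective).1 σ.toRingHom.injective)
  have hpol : ∀ x y : L, polar (qOf B) x y = T (Algebra.trace K L (x * σ y)) := by
    intro x y
    have h2 : Algebra.trace K L (c * y * σ x) = Algebra.trace K L (σ c * x * σ y) := by
      rw [← Algebra.trace_eq_of_algEquiv σF (c * y * σ x)]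
      show Algebra.trace K L (σ (c * y * σ x)) = _
      rw [map_mul σ, map_mul σ, hσσ]
      congr 1
      ring
    have hc1 : c + σ c = 1 := by
      have h := trace_eq_sum_automorphisms (K := K) (L := L) c
      rw [hc, map_one] at h
      have hne : (AlgEquiv.refl : L ≃ₐ[K] L) ≠ σF := by
        intro h'
        have h0 : ∀ x : L, σ x = x := fun x => (AlgEquiv.congr_fun h' x).symm
        have hle : Fintype.card L ≤ r := by
          classical
          calc Fintype.card L ≤ (Finset.univ.image (algebraMap K L)).card := by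
                rw [← Finset.card_univ]
                exact Finset.card_le_card fun x _ => by
                  obtain ⟨s, hs⟩ := hfix x (h0 x)
                  exact Finset.mem_image.2 ⟨s, Finset.mem_univ _, hs⟩
            _ ≤ r := Finset.card_image_le.trans (le_of_eq (by rw [Finset.card_univ]))
        rw [hL] at hle
        nlinarith
      classical
      have hcard : Fintype.card (L ≃ₐ[K] L) = 2 := FiniteField.card_algEquiv_extension K 2 2
      have hu : (Finset.univ : Finset (L ≃ₐ[K] L)) = {AlgEquiv.refl, σF} :=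
        (Finset.eq_univ_of_card _ (by rw [Finset.card_pair hne, hcard])).symm
      rw [hu, Finset.sum_pair hne] at h
      exact h.symm
    simp only [polar, hB, map_add, LinearMap.add_apply]
    have : T (N x y) + T (N y x) = T (Algebra.trace K L (x * σ y)) := by
      rw [← map_add, hN, hN, h2, ← map_add, ← add_mul, ← add_mul, hc1, one_mul]
    rw [← this]; ring
  have hT : ∀ x : L, (∀ y, T (Algebra.trace K L (x * y)) = 0) → x = 0 := fun x h => by
    by_contra hx
    obtain ⟨a, ha⟩ := Algebra.trace_surjective F K 1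
    obtain ⟨b, hb⟩ := Algebra.trace_surjective K L a
    have := h (x⁻¹ * b)
    rw [← mul_assoc, mul_inv_cancel₀ hx, one_mul, hb, ha] at this
    exact one_ne_zero this
  have hnd : (polarBilin (qOf B)).Nondegenerate := by
    refine ⟨fun x hx => hT x fun y => ?_, fun x hx => hT x fun y => ?_⟩
    · simpa [hpol, hσσ] using hx (σ y)
    · have := hx (σ y)
      rw [polarBilin_apply_apply, polar_comm, hpol, hσσ] at this
      exact this
  let φ' : K →+ ZMod 2 := φ.comp T.toAddMonoidHom
  have hφ' : φ' ≠ 0 := fun h => hφ (AddMonoidHom.ext fun x => by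
    obtain ⟨a, rfl⟩ := Algebra.trace_surjective F K x
    exact DFunLike.congr_fun h a)
  have hG : gauss φ ⇑(qOf B) = -(Fintype.card F : ℤ) ^ d := by
    have h := gauss_aniso hφ' (fun x : L => N x x) (fun t x => by
      simp [map_smul, mul_assoc]) (fun x hx => by
      have h1 := hNN x
      rw [hx, map_zero, eq_comm, mul_eq_zero] at h1
      rcases h1 with h1 | h1
      · exact h1
      · exact σ.toRingHom.injective (by simpa using h1))
    rw [hL, Nat.cast_pow] at h
    have h' : gauss φ ⇑(qOf B) = gauss φ' fun x : L => N x x := rfl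
    have hrz : (2 : ℤ) ≤ (r : ℤ) := by exact_mod_cast hr2
    rw [h', show -(Fintype.card F : ℤ) ^ d = -(r : ℤ) by rw [hK, Nat.cast_pow]]
    rw [← hr] at h
    nlinarith
  obtain ⟨u, hu⟩ := IsCyclic.exists_generator (α := Lˣ)
  have hou : orderOf u = r ^ 2 - 1 := by
    rw [orderOf_eq_card_of_forall_mem_zpowers hu, Nat.card_units, Nat.card_eq_fintype_card, hL]
  let v := u ^ (r - 1)
  have hfac : r ^ 2 - 1 = (r + 1) * (r - 1) := by
    have := Nat.sq_sub_sq r 1
    rwa [one_pow] at this
  have hov : orderOf v = r + 1 := by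
    rw [orderOf_pow_of_dvd (by omega) (by rw [hou, hfac]; exact dvd_mul_left _ _), hou, hfac,
      Nat.mul_div_cancel _ (by omega)]
  let m : Lˣ →* (L ≃ₗ[F] L) :=
    { toFun := fun a => LinearEquiv.ofLinear (LinearMap.mulLeft F (a : L)) (LinearMap.mulLeft F (↑a⁻¹ : L))
          (LinearMap.ext fun x => by simp) (LinearMap.ext fun x => by simp)
      map_one' := LinearEquiv.ext fun x => by simp
      map_mul' := fun a b => LinearEquiv.ext fun x => by simp [mul_assoc] }
  have hm : ∀ (a : Lˣ) x, m a x = (a : L) * x := fun a x => rfl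
  have hminj : Function.Injective m := fun a b h => Units.ext (by
    simpa [hm] using LinearEquiv.congr_fun h 1)
  refine ⟨L, inferInstance, inferInstance, inferInstance, inferInstance, qOf B, hnd, ?_, hG, m v,
    fun x => ?_, by rw [orderOf_injective m hminj, hov, hK]⟩
  · rw [← Module.finrank_mul_finrank F K L, FiniteField.finrank_extension,
      FiniteField.finrank_extension, mul_comm]
  · rw [hB, hB, hm]
    refine congrArg T ((algebraMap K L).injective ?_)
    rw [hNN, hNN, map_mul, mul_mul_mul_comm, hσ, ← pow_succ']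
    have : ((v : L)) ^ (r + 1) = 1 := by
      rw [← Units.val_pow_eq_pow_val, ← hov, pow_orderOf_eq_one, Units.val_one]
    rw [this, one_mul]

end CfsgLib.Spec8
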