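import Cfsg.Agent.Lib.Spec8.Root

/-! The orders of the isometries of an eight dimensional nondegenerate form in characteristic two. -/

set_option autoImplicit false

namespace CfsgLib.Spec8

open Matrix Polynomial

variable {F : Type*} [Field F]

theorem reverse_prod_X_sub_C {K : Type*} [Field K] (S : Multiset K) (h0 : ∀ a ∈ S, a ≠ 0) :
    ∃ c : K, c ≠ 0 ∧ (S.map fun a => X - C a).prod.reverse = C c * ((S.map fun a => a⁻¹).map fun a => X - C a).prod := by
  induction S using Multiset.induction_on with
  | empty => exact ⟨1, one_ne_zero, by simpa only [Multiset.map_zero, Multiset.prod_zero, C_1, one_mul] using reverse_C (1 : K)⟩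
  | cons a S ih =>
    obtain ⟨c, hc, h⟩ := ih fun b hb => h0 b (Multiset.mem_cons_of_mem hb)
    have ha := h0 a (Multiset.mem_cons_self a S)
    have h1 : (X - C a).reverse = C (-a) * (X - C a⁻¹) := by
      ext n
      rw [coeff_reverse, natDegree_X_sub_C]
      rcases n with _ | _ | n
      · rw [revAt_le (Nat.zero_le 1)]; simp [coeff_X, coeff_C, ha]
      · rw [revAt_le le_rfl]; simp [coeff_X, coeff_C]
      · rw [revAt_eq_self_of_lt (by omega)]; simp [coeff_X, coeff_C]
    refine ⟨-a * c, mul_ne_zero (neg_ne_zero.2 ha) hc, ?_⟩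
    simp only [Multiset.map_cons, Multiset.prod_cons]
    rw [reverse_mul_of_domain, h1, h, C_mul]
    ring

/-- Roots of a self reciprocal split monic polynomial are closed under inversion. -/
theorem roots_map_inv {K : Type*} [Field K] {f : K[X]} (hm : f.Monic) (hs : f.Splits)
    (h0 : ∀ a ∈ f.roots, a ≠ 0) {c : K} (hrev : f = C c * f.reverse) :
    f.roots.map (fun a => a⁻¹) = f.roots := by
  obtain ⟨e, he, h⟩ := reverse_prod_X_sub_C f.roots h0
  rw [← hs.eq_prod_roots_of_monic hm] at h
  have hc : c ≠ 0 := fun h' => hm.ne_zero (by rw [hrev, h']; simp)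
  conv_rhs => rw [hrev, h, roots_C_mul _ hc, roots_C_mul _ he, roots_multiset_prod_X_sub_C]

variable [Fintype F] [CharP F 2]

theorem even_card : Even (Fintype.card F) := by
  obtain ⟨n, hp, hn⟩ := FiniteField.card F 2
  rw [hn]
  exact (Nat.even_pow' n.ne_zero).2 even_two

theorem one_le_q : 1 ≤ Fintype.card F := Fintype.card_pos

theorem top_odd {q : ℕ} (hq : Even q) (hq1 : 1 ≤ q) {cr : ℕ × ℕ} (h : cr ∈ topList q) : Odd cr.2 := by
  have hp : ∀ d, d ≠ 0 → Odd (q ^ d + 1) := fun d hd => (hq.pow_of_ne_zero hd).add_one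
  have hm : ∀ d, d ≠ 0 → Odd (q ^ d - 1) := fun d hd => Nat.Even.sub_odd
    (Nat.one_le_pow _ _ hq1) (hq.pow_of_ne_zero hd) odd_one
  have h1p : Odd (q + 1) := hq.add_one
  have h1m : Odd (q - 1) := Nat.Even.sub_odd hq1 hq odd_one
  simp only [topList, List.mem_cons, List.not_mem_nil, or_false] at h
  rcases h with rfl | rfl | rfl | rfl | rfl | rfl | rfl | rfl | rfl | rfl | rfl | rfl <;>
    simp_all [Nat.odd_mul]

variable {ι : Type*} [Fintype ι] [DecidableEq ι]

/-- The characteristic polynomial of an isometry divides some `X ^ n - 1` with `n` maximal. -/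
theorem exists_top_dvd (hι : Fintype.card ι = 8) {M J : Matrix ι ι F} (hJ : IsUnit J.det)
    (hM : Mᵀ * J * M = J) :
    ∃ cr ∈ topList (Fintype.card F), M.charpoly ∣ X ^ (2 ^ cr.1 * cr.2) - 1 := by
  classical
  have hMd : IsUnit M.det := by
    rw [isUnit_iff_ne_zero]
    intro h
    apply hJ.ne_zero
    rw [← hM, det_mul, h, mul_zero]
  have hinv : M⁻¹ = J⁻¹ * Mᵀ * J := by
    apply inv_eq_left_inv
    rw [mul_assoc, mul_assoc, ← mul_assoc Mᵀ, hM, nonsing_inv_mul _ hJ]
  have hch : M.charpoly = (-1) ^ Fintype.card ι * C (Ring.inverse M.det) * M.charpolyRev := by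
    rw [← charpoly_inv M ((isUnit_iff_isUnit_det M).2 hMd), hinv, charpoly_mul_comm, ← mul_assoc,
      mul_nonsing_inv _ hJ, one_mul, charpoly_transpose]
  rw [hι, Even.neg_one_pow ⟨4, rfl⟩, one_mul, ← reverse_charpoly] at hch
  set K := AlgebraicClosure F
  set f := M.charpoly
  set φ := algebraMap F K
  have hf : f.Monic := charpoly_monic M
  have hfs : (f.map φ).Splits := IsAlgClosed.splits _
  have hdeg : (f.map φ).natDegree = 8 := by
    rw [natDegree_map, ← hι]; exact charpoly_natDegree_eq_dim M
  haveI : CharP K 2 := charP_of_injective_algebraMap φ.injective 2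
  haveI : Fact (Nat.Prime 2) := ⟨Nat.prime_two⟩
  let m : K → ℕ := fun x => (f.map φ).roots.count x
  have h0 : ∀ a ∈ (f.map φ).roots, a ≠ 0 := by
    intro a ha h
    rw [mem_roots (hf.map φ).ne_zero, IsRoot.def, h, eval_map, eval₂_at_zero] at ha
    have := det_eq_sign_charpoly_coeff M
    rw [show M.charpoly.coeff 0 = 0 from φ.injective (by simpa using ha), mul_zero] at this
    exact hMd.ne_zero this
  have hminv : ∀ x, m x⁻¹ = m x := by
    intro x
    have h := roots_map_inv (hf.map φ) hfs h0 (c := φ (Ring.inverse M.det)) (by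
      nth_rw 1 [hch]
      rw [Polynomial.map_mul, map_C]
      congr 1
      rw [Polynomial.reverse, Polynomial.reverse, reflect_map, natDegree_map])
    show (f.map φ).roots.count x⁻¹ = (f.map φ).roots.count x
    conv_lhs => rw [← h]
    exact Multiset.count_map_eq_count' (fun a : K => a⁻¹) _ inv_injective x
  obtain ⟨k, hk2, hk⟩ := FiniteField.card F 2
  have hiter : ∀ (i : ℕ) (x : K), x ^ Fintype.card F ^ i = (iterateFrobenius K 2 ((k : ℕ) * i)) x := by
    intro i x; rw [iterateFrobenius_def, pow_mul, hk]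
  have hinj : ∀ i, Function.Injective fun x : K => x ^ Fintype.card F ^ i := fun i x y h => by
    apply (iterateFrobenius K 2 ((k : ℕ) * i)).injective
    simpa [hiter] using h
  have hfrob : ∀ x, m (x ^ Fintype.card F) = m x := by
    intro x
    let σ : K →+* K := iterateFrobenius K 2 k
    have hσ : ∀ y, σ y = y ^ Fintype.card F := fun y => by
      rw [hk]; exact iterateFrobenius_def ..
    have hfix : (f.map φ).map σ = f.map φ := by
      rw [Polynomial.map_map]
      congr 1
      ext a
      rw [RingHom.comp_apply, hσ, ← map_pow, FiniteField.pow_card]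
    show (f.map φ).roots.count (x ^ Fintype.card F) = (f.map φ).roots.count x
    rw [count_roots, count_roots, ← hσ]
    conv_lhs => rw [← hfix]
    exact (eq_rootMultiplicity_map σ.injective x).symm
  obtain ⟨cr, hcr, hb⟩ := exists_top (one_le_q (F := F)) (m := m)
    (Multiset.count_eq_zero.2 fun h => h0 0 h rfl) hminv hfrob hinj (fun s => by
      calc ∑ x ∈ s, (f.map φ).roots.count x ≤ Multiset.card (f.map φ).roots := by
            rw [← Multiset.toFinset_sum_count_eq]
            refine Finset.sum_le_sum_of_ne_zero fun x _ hx => Multiset.mem_toFinset.2 ?_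
            by_contra h
            exact hx (Multiset.count_eq_zero.2 h)
        _ ≤ 8 := hdeg ▸ card_roots' _)
  refine ⟨cr, hcr, ?_⟩
  rw [← map_dvd_map' φ]
  simp only [Polynomial.map_sub, Polynomial.map_pow, map_X, Polynomial.map_one]
  set r := cr.2
  have hr : Odd r := top_odd even_card one_le_q hcr
  have hrK : (r : K) ≠ 0 := by
    intro h
    rw [CharP.cast_eq_zero_iff K 2] at h
    exact (Nat.not_even_iff_odd.2 hr) (even_iff_two_dvd.2 h)
  have hr0 : 0 < r := hr.pos
  have hXr : (X : K[X]) ^ (2 ^ cr.1 * r) - 1 = (X ^ r - C 1) ^ 2 ^ cr.1 := by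
    rw [sub_pow_char_pow, ← pow_mul, mul_comm r, C_1, one_pow]
  refine hfs.dvd_of_roots_le_roots (hf.map φ).ne_zero ?_
  rw [hXr, roots_pow, Multiset.le_iff_count]
  intro x
  rw [Multiset.count_nsmul]
  rcases Nat.eq_zero_or_pos ((f.map φ).roots.count x) with h | h
  · rw [h]; exact Nat.zero_le _
  obtain ⟨hx1, hxm⟩ := hb x h
  have : 1 ≤ (X ^ r - C (1 : K)).roots.count x := by
    rw [Multiset.one_le_count_iff_mem, mem_roots (X_pow_sub_C_ne_zero hr0 _)]
    simp [hx1]
  exact le_trans hxm (le_trans (Nat.le_mul_of_pos_right _ this) (by convert le_rfl))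

/-- An isometry has order dividing a maximal one; with two independent fixed vectors or none,
the corresponding geometric sum vanishes as well. -/
theorem exists_top_pow (hι : Fintype.card ι = 8) {M J : Matrix ι ι F} (hJ : IsUnit J.det)
    (hM : Mᵀ * J * M = J) :
    ∃ cr ∈ topList (Fintype.card F), M ^ (2 ^ cr.1 * cr.2) = 1 ∧
      (((∀ v, M *ᵥ v = v → v = 0) ∨ ∃ v w, LinearIndependent F ![v, w] ∧ M *ᵥ v = v ∧ M *ᵥ w = w) →
        ∑ i ∈ Finset.range (2 ^ cr.1 * cr.2), M ^ i = 0) := by
  obtain ⟨cr, hcr, hdvd⟩ := exists_top_dvd hι hJ hM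
  have hn : M ^ (2 ^ cr.1 * cr.2) = 1 := by
    obtain ⟨g, hg⟩ := hdvd
    have := congrArg (Polynomial.aeval M) hg
    rw [map_mul, Matrix.aeval_self_charpoly, zero_mul, map_sub, map_pow, aeval_X, map_one,
      sub_eq_zero] at this
    exact this
  refine ⟨cr, hcr, hn, fun hfix => ?_⟩
  have hgs : (∑ i ∈ Finset.range (2 ^ cr.1 * cr.2), M ^ i) * (M - 1) = 0 := by
    rw [geom_sum_mul, hn, sub_self]
  rcases hfix with h1 | ⟨v, w, hli, hv, hw⟩
  · have hu : IsUnit (M - 1).det := by
      rw [isUnit_iff_ne_zero]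
      intro h
      obtain ⟨x, hx0, hx⟩ := exists_mulVec_eq_zero_iff.2 h
      rw [sub_mulVec, one_mulVec, sub_eq_zero] at hx
      exact hx0 (h1 x hx)
    calc ∑ i ∈ Finset.range (2 ^ cr.1 * cr.2), M ^ i
        = (∑ i ∈ Finset.range (2 ^ cr.1 * cr.2), M ^ i) * (M - 1) * (M - 1)⁻¹ := by
          rw [mul_assoc, mul_nonsing_inv _ hu, mul_one]
      _ = 0 := by rw [hgs, zero_mul]
  · -- a basis through the two fixed vectors
    let b₀ := Module.Basis.sumExtend hli
    haveI : Finite (Fin 2 ⊕ Module.Basis.sumExtendIndex hli) := Module.Finite.finite_basis b₀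
    haveI : Finite (Module.Basis.sumExtendIndex hli) :=
      Finite.of_injective (fun i => (Sum.inr i : Fin 2 ⊕ Module.Basis.sumExtendIndex hli))
        Sum.inr_injective
    haveI := Fintype.ofFinite (Module.Basis.sumExtendIndex hli)
    classical
    let f := Matrix.toLin' M
    let A := LinearMap.toMatrixAlgEquiv b₀ f
    have hcol : ∀ i, f (b₀ (Sum.inl i)) = b₀ (Sum.inl i) := by
      intro i
      have : b₀ (Sum.inl i) = ![v, w] i := by
        simp only [b₀, Module.Basis.sumExtend, Module.Basis.reindex_apply, Module.Basis.extend_apply_self]; rfl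
      rw [this, Matrix.toLin'_apply]
      fin_cases i <;> simpa
    have hA : A = Matrix.fromBlocks 1 A.toBlocks₁₂ 0 A.toBlocks₂₂ := by
      ext (i | i) (j | j)
      · simp [A, LinearMap.toMatrixAlgEquiv_apply, hcol, Finsupp.single_apply, Matrix.one_apply, eq_comm]
      · rfl
      · simp [A, LinearMap.toMatrixAlgEquiv_apply, hcol, Finsupp.single_apply]
      · rfl
    have hchar : M.charpoly = (X - 1) ^ 2 * A.toBlocks₂₂.charpoly := by
      rw [← Matrix.charpoly_toLin' M, ← LinearMap.charpoly_toMatrix f b₀]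
      show A.charpoly = _
      rw [hA, charpoly_fromBlocks_zero₂₁, charpoly_one, toBlocks_fromBlocks₂₂, Fintype.card_fin]
    set h := A.toBlocks₂₂.charpoly
    -- `(M - 1) h(M) = 0`
    have hfac : (M - 1) * aeval M h = 0 := by
      have e : LinearMap.toMatrixAlgEquiv b₀ ((f - 1) * aeval f h) = 0 := by
        rw [map_mul, map_sub, map_one, ← Polynomial.aeval_algHom_apply]
        show (A - 1) * aeval A h = 0
        have hpow : ∀ n, ∃ B, A ^ n = Matrix.fromBlocks 1 B 0 (A.toBlocks₂₂ ^ n) := by
          intro n; induction n with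
          | zero => exact ⟨0, by simp [fromBlocks_one]⟩
          | succ n ih =>
            obtain ⟨B, hB⟩ := ih
            refine ⟨(1 : Matrix (Fin 2) (Fin 2) F) * A.toBlocks₁₂ + B * A.toBlocks₂₂, ?_⟩
            rw [pow_succ, hB]
            conv_lhs => arg 2; rw [hA]
            rw [fromBlocks_multiply, pow_succ]
            simp
        have hae : ∀ p : F[X], ∃ T B, aeval A p = Matrix.fromBlocks T B 0 (aeval A.toBlocks₂₂ p) := by
          intro p
          induction p using Polynomial.induction_on' with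
          | add p p' h1 h2 =>
            obtain ⟨T, B, h1⟩ := h1; obtain ⟨T', B', h2⟩ := h2
            exact ⟨T + T', B + B', by simp [map_add, h1, h2, fromBlocks_add]⟩
          | monomial n a =>
            obtain ⟨B, hB⟩ := hpow n
            refine ⟨a • 1, a • B, ?_⟩
            rw [aeval_monomial, aeval_monomial, ← Algebra.smul_def, ← Algebra.smul_def, hB,
              fromBlocks_smul, smul_zero]
        obtain ⟨T, B, hT⟩ := hae h
        rw [hT, show aeval A.toBlocks₂₂ h = 0 from Matrix.aeval_self_charpoly _]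
        conv_lhs => arg 1; arg 1; rw [hA]
        rw [← fromBlocks_one, sub_eq_add_neg, fromBlocks_neg, fromBlocks_add, fromBlocks_multiply]
        simp
      have e' : (f - 1) * aeval f h = 0 := (LinearMap.toMatrixAlgEquiv b₀).injective (by rw [e, map_zero])
      apply (Matrix.toLinAlgEquiv' (R := F) (n := ι)).injective
      rw [map_mul, map_sub, map_one, map_zero, ← Polynomial.aeval_algHom_apply]
      exact e'
    obtain ⟨g, hg⟩ := hdvd
    have hs : (∑ i ∈ Finset.range (2 ^ cr.1 * cr.2), (X : F[X]) ^ i) = (X - 1) * h * g := by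
      apply mul_left_cancel₀ (show (X - 1 : F[X]) ≠ 0 from C_1 (R := F) ▸ X_sub_C_ne_zero 1)
      rw [mul_geom_sum, hg, hchar]
      ring
    have := congrArg (Polynomial.aeval M) hs
    simp only [map_sum, map_pow, aeval_X, map_mul, map_sub, map_one] at this
    rw [this, hfac, zero_mul]

end CfsgLib.Spec8
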