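import Cfsg.Agent.Lib.Geometry.FormTypes

/-! Gauss sums of quadratic forms in characteristic two and recognition of the minus type. -/

set_option autoImplicit false

namespace CfsgLib.Spec8

open QuadraticMap CfsgLib.Geometry

section Char

variable {F : Type*} [Field F] [CharP F 2]

/-- A sign character given by an additive map to `ZMod 2`. -/
def sgn (φ : F →+ ZMod 2) (x : F) : ℤ := if φ x = 0 then 1 else -1

omit [CharP F 2] in
theorem sgn_zero (φ : F →+ ZMod 2) : sgn φ 0 = 1 := by simp [sgn]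

omit [CharP F 2] in
theorem sgn_add (φ : F →+ ZMod 2) (x y : F) : sgn φ (x + y) = sgn φ x * sgn φ y := by
  have key : ∀ a b : ZMod 2, (if a + b = 0 then (1 : ℤ) else -1) =
      (if a = 0 then 1 else -1) * (if b = 0 then 1 else -1) := by decide
  unfold sgn
  rw [map_add]
  exact key _ _

omit [CharP F 2] in
theorem sgn_sum (φ : F →+ ZMod 2) {α : Type*} (s : Finset α) (f : α → F) :
    sgn φ (∑ i ∈ s, f i) = ∏ i ∈ s, sgn φ (f i) := by
  classical
  induction s using Finset.induction_on with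
  | empty => simp [sgn_zero]
  | insert a s ha ih => rw [Finset.sum_insert ha, Finset.prod_insert ha, sgn_add, ih]

omit [CharP F 2] in
/-- A non-trivial sign character sums to zero. -/
theorem sum_sgn [Fintype F] {φ : F →+ ZMod 2} (hφ : φ ≠ 0) : ∑ x : F, sgn φ x = 0 := by
  obtain ⟨a, ha⟩ : ∃ a, φ a ≠ 0 := by
    by_contra h; push Not at h; exact hφ (AddMonoidHom.ext h)
  have h1 : sgn φ a = -1 := by simp [sgn, ha]
  have h2 : ∑ x : F, sgn φ x = -∑ x : F, sgn φ x := by
    conv_lhs => rw [← Equiv.sum_comp (Equiv.addRight a) fun x => sgn φ x]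
    simp [sgn_add, h1]
  linarith

theorem exists_phi [Finite F] : ∃ φ : F →+ ZMod 2, φ ≠ 0 := by
  haveI : Fact (Nat.Prime 2) := ⟨Nat.prime_two⟩
  letI : Algebra (ZMod 2) F := ZMod.algebra F 2
  refine ⟨(Algebra.trace (ZMod 2) F).toAddMonoidHom, fun h => ?_⟩
  obtain ⟨a, ha⟩ := Algebra.trace_surjective (ZMod 2) F 1
  have := DFunLike.congr_fun h a
  simp only [LinearMap.toAddMonoidHom_coe, ha, AddMonoidHom.zero_apply] at this
  exact one_ne_zero this

end Char

variable {F : Type*} [Field F]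

/-- The Gauss sum of a function. -/
def gauss (φ : F →+ ZMod 2) {X : Type*} [Fintype X] (Q : X → F) : ℤ := ∑ v, sgn φ (Q v)

theorem gauss_prod (φ : F →+ ZMod 2) {X Y : Type*} [Fintype X] [Fintype Y] (Q : X → F) (R : Y → F) :
    gauss φ (fun p : X × Y => Q p.1 + R p.2) = gauss φ Q * gauss φ R := by
  simp only [gauss, Fintype.sum_prod_type, sgn_add, Finset.sum_mul_sum]

theorem gauss_equiv (φ : F →+ ZMod 2) {X Y : Type*} [Fintype X] [Fintype Y] (e : Y ≃ X) (Q : X → F) :
    gauss φ (fun y => Q (e y)) = gauss φ Q :=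
  Equiv.sum_comp e fun x => sgn φ (Q x)

/-- Anisotropic forms. -/
theorem gauss_aniso [Fintype F] [CharP F 2] {φ : F →+ ZMod 2} (hφ : φ ≠ 0) {X : Type*} [Fintype X]
    [AddCommGroup X] [Module F X] (Q : X → F) (hsm : ∀ (t : F) v, Q (t • v) = t * t * Q v)
    (h0 : ∀ v, Q v = 0 → v = 0) :
    ((Fintype.card F : ℤ) - 1) * (gauss φ Q - 1) = -((Fintype.card X : ℤ) - 1) := by
  classical
  have hsq : Function.Bijective fun t : F => t * t :=
    (Finite.injective_iff_bijective).1 fun a b h => by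
      rcases mul_self_eq_mul_self_iff.1 h with h | h
      · exact h
      · rwa [CharTwo.neg_eq] at h
  have hQ0 : Q 0 = 0 := by simpa using hsm 0 0
  have hline : ∀ v : X, v ≠ 0 → ∑ t ∈ Finset.univ.erase (0 : F), sgn φ (Q (t • v)) = -1 := by
    intro v hv
    have hc : Q v ≠ 0 := fun h => hv (h0 v h)
    have hall : ∑ t : F, sgn φ (Q (t • v)) = 0 := by
      simp only [hsm]
      rw [← sum_sgn hφ]
      exact Equiv.sum_comp ((Equiv.ofBijective _ hsq).trans (Equiv.mulRight₀ _ hc)) (sgn φ)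
    rw [Finset.sum_erase_eq_sub (Finset.mem_univ _), hall, zero_smul, hQ0, sgn_zero]
    norm_num
  have hS : ∀ t : F, t ≠ 0 →
      ∑ v ∈ Finset.univ.erase (0 : X), sgn φ (Q (t • v)) = gauss φ Q - 1 := by
    intro t ht
    rw [Finset.sum_erase_eq_sub (Finset.mem_univ _), smul_zero, hQ0, sgn_zero]
    have hb : Function.Bijective fun v : X => t • v :=
      ⟨smul_right_injective X ht, fun v => ⟨t⁻¹ • v, smul_inv_smul₀ ht v⟩⟩
    rw [show ∑ v : X, sgn φ (Q (t • v)) = gauss φ Q from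
      Equiv.sum_comp (Equiv.ofBijective _ hb) fun v => sgn φ (Q v)]
  have hcount := Finset.sum_comm (s := Finset.univ.erase (0 : F)) (t := Finset.univ.erase (0 : X))
    (f := fun t v => sgn φ (Q (t • v)))
  rw [Finset.sum_congr rfl fun t ht => hS t (Finset.ne_of_mem_erase ht),
    Finset.sum_congr rfl fun v hv => hline v (Finset.ne_of_mem_erase hv), Finset.sum_const,
    Finset.sum_const, Finset.card_erase_of_mem (Finset.mem_univ _),
    Finset.card_erase_of_mem (Finset.mem_univ _), Finset.card_univ, Finset.card_univ,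
    nsmul_eq_mul, nsmul_eq_mul, Nat.cast_sub Fintype.card_pos, Nat.cast_sub Fintype.card_pos] at hcount
  push_cast at hcount
  linarith

/-- Hyperbolic forms. -/
theorem gauss_hyp {φ : F →+ ZMod 2} {U V : Type*} [Fintype U] [Fintype V] [AddCommGroup U]
    (B : U → V → F) (hB : ∀ v u u', B (u + u') v = B u v + B u' v) (hl : ∀ u, B u = 0 → u = 0)
    (hsum : ∀ u, B u ≠ 0 → ∑ v, sgn φ (B u v) = 0) :
    gauss φ (fun p : U × V => B p.1 p.2) = Fintype.card V := by
  classical
  have hB0 : ∀ v, B 0 v = 0 := fun v => by simpa using hB v 0 0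
  simp only [gauss, Fintype.sum_prod_type]
  rw [Finset.sum_eq_single (0 : U)]
  · simp [hB0, sgn_zero]
  · exact fun u _ hu => hsum u fun h => hu (hl u h)
  · simp

variable [Fintype F] [CharP F 2]

theorem gauss_mul {φ : F →+ ZMod 2} (hφ : φ ≠ 0) :
    gauss φ (fun p : F × F => p.1 * p.2) = Fintype.card F :=
  gauss_hyp (fun u v => u * v) (fun v u u' => add_mul u u' v)
    (fun u h => by simpa using congrFun h 1) fun u h => by
      have hu : u ≠ 0 := fun hh => h (funext fun v => by simp [hh])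
      rw [← sum_sgn hφ]
      exact Equiv.sum_comp (Equiv.mulLeft₀ u hu) (sgn φ)

theorem gauss_plus {φ : F →+ ZMod 2} (hφ : φ ≠ 0) (m : ℕ) :
    gauss φ (Cfsg.quadFormPlus m F) = (Fintype.card F : ℤ) ^ m := by
  classical
  let e : (Fin m → F × F) ≃ (Fin m ⊕ Fin m → F) :=
    (Equiv.arrowProdEquivProdArrow _ _ _).trans (Equiv.sumArrowEquivProdArrow _ _ _).symm
  rw [← gauss_equiv φ e]
  simp only [gauss, Cfsg.quadFormPlus, sgn_sum]
  have h1 : ∀ (f : Fin m → F × F) i, e f (.inl i) = (f i).1 ∧ e f (.inr i) = (f i).2 :=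
    fun f i => ⟨rfl, rfl⟩
  simp only [h1]
  rw [← Fintype.prod_sum fun (_ : Fin m) (p : F × F) => sgn φ (p.1 * p.2),
    Finset.prod_const, Finset.card_univ, Fintype.card_fin]
  exact congrArg (· ^ m) (gauss_mul hφ)

theorem gauss_binary {φ : F →+ ZMod 2} (hφ : φ ≠ 0) {a b : F}
    (hab : ∀ z₁ z₂ : F, z₁ ^ 2 + a * z₁ * z₂ + b * z₂ ^ 2 = 0 → z₁ = 0 ∧ z₂ = 0) :
    gauss φ (fun z : Fin 2 → F => z 0 ^ 2 + a * z 0 * z 1 + b * z 1 ^ 2) = -(Fintype.card F : ℤ) := by
  have h := gauss_aniso hφ (fun z : Fin 2 → F => z 0 ^ 2 + a * z 0 * z 1 + b * z 1 ^ 2)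
    (fun t v => by simp; ring) (fun v hv => by
      obtain ⟨h1, h2⟩ := hab _ _ hv
      funext i; fin_cases i <;> assumption)
  rw [Fintype.card_fun, Fintype.card_fin] at h
  push_cast at h
  have hq : (2 : ℤ) ≤ Fintype.card F := by exact_mod_cast Fintype.one_lt_card
  nlinarith

theorem gauss_minus {φ : F →+ ZMod 2} (hφ : φ ≠ 0) (m : ℕ) {a b : F}
    (hab : ∀ z₁ z₂ : F, z₁ ^ 2 + a * z₁ * z₂ + b * z₂ ^ 2 = 0 → z₁ = 0 ∧ z₂ = 0) :
    gauss φ (Cfsg.quadFormMinus m F a b) = -(Fintype.card F : ℤ) ^ (m + 1) := by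
  rw [← gauss_equiv φ (Equiv.sumArrowEquivProdArrow _ _ _).symm]
  have := gauss_prod φ (Cfsg.quadFormPlus m F) fun z : Fin 2 → F => z 0 ^ 2 + a * z 0 * z 1 + b * z 1 ^ 2
  rw [gauss_plus hφ, gauss_binary hφ hab] at this
  rw [pow_succ, ← mul_neg, ← this]
  rfl

theorem exists_sqrt (x : F) : ∃ t, t * t = x := by
  have : Function.Bijective fun t : F => t * t :=
    (Finite.injective_iff_bijective).1 fun a b h => by
      rcases mul_self_eq_mul_self_iff.1 h with h | h
      · exact h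
      · rwa [CharTwo.neg_eq] at h
  exact this.surjective x

/-- A nondegenerate form with the Gauss sum of the minus type is isometric to the standard one. -/
theorem exists_isometry {φ : F →+ ZMod 2} (hφ : φ ≠ 0) (m : ℕ) {a b : F}
    (hab : ∀ z₁ z₂ : F, z₁ ^ 2 + a * z₁ * z₂ + b * z₂ ^ 2 = 0 → z₁ = 0 ∧ z₂ = 0)
    {X : Type*} [AddCommGroup X] [Module F X] [FiniteDimensional F X] [Fintype X]
    (Q : QuadraticForm F X) (hQ : (polarBilin Q).Nondegenerate)
    (hd : Module.finrank F X = 2 * (m + 1)) (hG : gauss φ ⇑Q = -(Fintype.card F : ℤ) ^ (m + 1)) :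
    ∃ E : (((Fin m ⊕ Fin m) ⊕ Fin 2) → F) ≃ₗ[F] X, ∀ v, Q (E v) = Cfsg.quadFormMinus m F a b v := by
  classical
  let E₀ : (Fin (2 * (m + 1)) → F) ≃ₗ[F] X :=
    LinearEquiv.ofFinrankEq _ _ (by rw [Module.finrank_fintype_fun_eq_card, Fintype.card_fin, hd])
  let Q' : QuadraticForm F (Fin (2 * (m + 1)) → F) := Q.comp E₀.toLinearMap
  have hQ'v : ∀ v, Q' v = Q (E₀ v) := fun v => rfl
  have hpol : ∀ u v, polar Q' u v = polar Q (E₀ u) (E₀ v) := fun u v => by
    simp only [polar, hQ'v, map_add]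
  have hQ' : (polarBilin Q').Nondegenerate := by
    refine ⟨fun u hu => E₀.map_eq_zero_iff.1 (hQ.1 _ fun y => ?_),
      fun u hu => E₀.map_eq_zero_iff.1 (hQ.2 _ fun y => ?_)⟩
    · have := hu (E₀.symm y)
      rw [polarBilin_apply_apply, hpol, E₀.apply_symm_apply] at this
      exact this
    · have := hu (E₀.symm y)
      rw [polarBilin_apply_apply, hpol, E₀.apply_symm_apply] at this
      exact this
  have key : ∀ {κ : Type} [Fintype κ] (E : (κ → F) ≃ₗ[F] (Fin (2 * (m + 1)) → F)) (c : F), c ≠ 0 →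
      ∀ R : (κ → F) → F, (∀ (t : F) v, R (t • v) = t * t * R v) → (∀ v, Q' (E v) = c * R v) →
      ∃ E' : (κ → F) ≃ₗ[F] X, ∀ v, Q (E' v) = R v := by
    intro κ _ E c hc R hR hE
    obtain ⟨t, ht⟩ := exists_sqrt c⁻¹
    have ht0 : t ≠ 0 := fun h => inv_ne_zero hc (by rw [← ht, h, mul_zero])
    refine ⟨(LinearEquiv.smulOfNeZero F (κ → F) t ht0).trans (E.trans E₀), fun v => ?_⟩
    show Q (E₀ (E (t • v))) = R v
    rw [← hQ'v, hE, hR, ht, ← mul_assoc, mul_inv_cancel₀ hc, one_mul]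
  rcases isSimTo_even Q' hQ' (m := m) (Fintype.card_fin _) with ⟨E, c, hc, hE⟩ | ⟨a', b', hab', hsim⟩
  · exfalso
    obtain ⟨E', hE'⟩ := key E c hc _ (fun t v => by
      simp only [Cfsg.quadFormPlus, Pi.smul_apply, smul_eq_mul, Finset.mul_sum]
      exact Finset.sum_congr rfl fun i _ => by ring) hE
    have h1 := gauss_equiv φ E'.toEquiv ⇑Q
    simp only [LinearEquiv.coe_toEquiv] at h1
    rw [funext hE', gauss_plus hφ, hG] at h1
    have : (0 : ℤ) < (Fintype.card F : ℤ) ^ (m + 1) := pow_pos (by exact_mod_cast Fintype.card_pos) _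
    linarith
  · obtain ⟨E, c, hc, hE⟩ := hsim.trans (isSimTo_minus m hab' hab)
    exact key E c hc _ (fun t v => by
      simp only [Cfsg.quadFormMinus, Pi.smul_apply, smul_eq_mul, mul_add, Finset.mul_sum]
      refine congrArg₂ (· + ·) (Finset.sum_congr rfl fun i _ => by ring) (by ring)) hE

end CfsgLib.Spec8
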