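import Cfsg.Agent.Lib.Spec8.Witness
import Cfsg.Agent.Lib.Geometry.SymplecticBasis
import Cfsg.Agent.Lib.Classical.SympSimple
import Cfsg.Agent.Lib.KnownB.OrthPrime

/-! The groups `V^k ⋊ Ω₈⁻(q)` and `Sp₈(q)` have the same element orders. -/

set_option autoImplicit false

namespace CfsgLib.Spec8

open QuadraticMap CfsgLib.Geometry

variable {F : Type*} [Field F] [Fintype F] [CharP F 2] {a b : F}

/-- The divisors of the maximal orders. -/
def dset (q : ℕ) : Set ℕ := {n | ∃ cr ∈ topList q, n ∣ 2 ^ cr.1 * cr.2}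

omit [Fintype F] [CharP F 2] in
theorem range_orderOf {G : Type*} [Group G] [Finite G] {q : ℕ} (h1 : ∀ g : G, orderOf g ∈ dset q)
    (h2 : ∀ cr ∈ topList q, ∃ g : G, orderOf g = 2 ^ cr.1 * cr.2) :
    Set.range (orderOf : G → ℕ) = dset q := by
  refine Set.Subset.antisymm (Set.range_subset_iff.2 h1) fun n hn => ?_
  obtain ⟨cr, hcr, hd⟩ := hn
  obtain ⟨g, hg⟩ := h2 cr hcr
  have hg0 : orderOf g ≠ 0 := (orderOf_pos g).ne'
  rw [← hg] at hd
  have hn0 : n ≠ 0 := fun h => hg0 (zero_dvd_iff.1 (h ▸ hd))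
  exact ⟨g ^ (orderOf g / n), by
    rw [orderOf_pow_of_dvd (Nat.div_ne_zero_iff_of_dvd hd |>.2 ⟨hg0, hn0⟩) (Nat.div_dvd_of_dvd hd),
      Nat.div_div_self hd hg0]⟩

/-! ### The semidirect product -/

section SD

variable (hab : ∀ z₁ z₂ : F, z₁ ^ 2 + a * z₁ * z₂ + b * z₂ ^ 2 = 0 → z₁ = 0 ∧ z₂ = 0) (k : ℕ)

/-- Kernel of the Dickson invariant. -/
noncomputable def L8 : Subgroup (orth (Q8 a b)) := (dicksonHom (Q8_nondeg hab) (Q8_refl hab)).ker

/-- The diagonal action on `k` copies. -/
noncomputable def act : L8 hab →* MulAut (Multiplicative (Fin k → V8 F)) where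
  toFun g := AddEquiv.toMultiplicative
    (LinearEquiv.piCongrRight fun _ : Fin k => ((g : orth (Q8 a b)) : V8 F ≃ₗ[F] V8 F)).toAddEquiv
  map_one' := MulEquiv.ext fun _ => rfl
  map_mul' _ _ := MulEquiv.ext fun _ => rfl

/-- `V^k ⋊ Ω₈⁻(q)`. -/
abbrev H8 := Multiplicative (Fin k → V8 F) ⋊[act hab k] (L8 hab)

theorem pow_pair (v : Fin k → V8 F) (g : L8 hab) (n : ℕ) :
    ((⟨Multiplicative.ofAdd v, g⟩ : H8 hab k) ^ n).left = Multiplicative.ofAdd
        (fun j => ∑ i ∈ Finset.range n, ((((g : orth (Q8 a b)) : V8 F ≃ₗ[F] V8 F)) ^ i) (v j)) ∧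
      ((⟨Multiplicative.ofAdd v, g⟩ : H8 hab k) ^ n).right = g ^ n := by
  induction n with
  | zero => exact ⟨by simp; rfl, rfl⟩
  | succ n ih =>
    rw [pow_succ, SemidirectProduct.mul_left, SemidirectProduct.mul_right, ih.1, ih.2, pow_succ]
    refine ⟨?_, rfl⟩
    show Multiplicative.ofAdd _ = _
    congr 1
    funext j
    show _ + ((((g ^ n : L8 hab) : orth (Q8 a b)) : V8 F ≃ₗ[F] V8 F)) (v j) = _
    rw [Finset.sum_range_succ]
    simp only [SubgroupClass.coe_pow]
    rfl

theorem finite_lequiv : Finite (V8 F ≃ₗ[F] V8 F) :=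
  Finite.of_injective (fun g => (g : V8 F → V8 F)) DFunLike.coe_injective

theorem two_fixed {g : V8 F ≃ₗ[F] V8 F} (hd : dickson g = 0) :
    (∀ v, g v = v → v = 0) ∨ ∃ v w, LinearIndependent F ![v, w] ∧ g v = v ∧ g w = w := by
  let K := LinearMap.ker (movMap g)
  have hsum : Module.finrank F (movSpace g) + Module.finrank F K = 8 := by
    have := LinearMap.finrank_range_add_finrank_ker (movMap g)
    rw [Module.finrank_fintype_fun_eq_card, Fintype.card_sum, Fintype.card_sum, Fintype.card_fin,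
      Fintype.card_fin] at this
    exact this
  have hfix : ∀ v, g v = v → v ∈ K := fun v hv => by simp [K, LinearMap.mem_ker, hv]
  have heven : 2 ∣ Module.finrank F (movSpace g) := (CharP.cast_eq_zero_iff (ZMod 2) 2 _).1 hd
  by_cases h0 : Module.finrank F K = 0
  · left
    intro v hv
    have := hfix v hv
    rwa [Submodule.finrank_eq_zero.1 h0, Submodule.mem_bot] at this
  · right
    let B := Module.finBasis F K
    have h2 : 2 ≤ Module.finrank F K := by omega
    refine ⟨(B ⟨0, by omega⟩ : V8 F), (B ⟨1, by omega⟩ : V8 F), ?_, ?_, ?_⟩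
    · have := (B.linearIndependent.map' K.subtype (Submodule.ker_subtype K)).comp (Fin.castLE h2)
        (Fin.castLE_injective h2)
      have he : ((⇑K.subtype ∘ ⇑B) ∘ Fin.castLE h2) =
          ![(B ⟨0, by omega⟩ : V8 F), (B ⟨1, by omega⟩ : V8 F)] := by
        funext i; fin_cases i <;> rfl
      exact he ▸ this
    · exact (sub_eq_zero.1 (LinearMap.mem_ker.1 (B ⟨0, by omega⟩).2)).symm
    · exact (sub_eq_zero.1 (LinearMap.mem_ker.1 (B ⟨1, by omega⟩).2)).symm

theorem orderOf_H8_mem (x : H8 hab k) : orderOf x ∈ dset (Fintype.card F) := by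
  obtain ⟨v, g⟩ := x
  let f : V8 F ≃ₗ[F] V8 F := ((g : orth (Q8 a b)) : V8 F ≃ₗ[F] V8 F)
  have hd : dickson f = 0 := congrArg Multiplicative.toAdd g.2
  let M := LinearMap.toMatrix' f.toLinearMap
  let B : LinearMap.BilinForm F (V8 F) := polarBilin (Q8 a b)
  let J := LinearMap.BilinForm.toMatrix' B
  have hJ : IsUnit J.det := by
    rw [isUnit_iff_ne_zero]
    exact (LinearMap.BilinForm.nondegenerate_iff_det_ne_zero (Pi.basisFun F _)).1 (Q8_nondeg hab) |>
      fun h => by rwa [LinearMap.BilinForm.toMatrix_basisFun] at h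
  have hM : M.transpose * J * M = J := by
    rw [← LinearMap.BilinForm.toMatrix'_comp]
    congr 1
    exact LinearMap.ext₂ fun u w => orth_polar (g : orth (Q8 a b)).2 u w
  obtain ⟨cr, hcr, hpow, hsum⟩ := exists_top_pow (by simp) hJ hM
  refine ⟨cr, hcr, orderOf_dvd_of_pow_eq_one ?_⟩
  have hiter : ∀ i w, (M ^ i).mulVec w = (f ^ i) w := by
    intro i; induction i with
    | zero => intro w; simp
    | succ i ih =>
      intro w
      rw [pow_succ, ← Matrix.mulVec_mulVec, pow_succ]
      show (M ^ i).mulVec (M.mulVec w) = (f ^ i) (f w)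
      rw [LinearMap.toMatrix'_mulVec, ih]
      rfl
  obtain ⟨w, rfl⟩ : ∃ w, Multiplicative.ofAdd w = v := ⟨_, rfl⟩
  obtain ⟨h1, h2⟩ := pow_pair hab k w g (2 ^ cr.1 * cr.2)
  have hs := hsum (by
    rcases two_fixed hd with h | ⟨u, u', hli, hu, hu'⟩
    · exact Or.inl fun u hu => h u (by rwa [LinearMap.toMatrix'_mulVec] at hu)
    · exact Or.inr ⟨u, u', hli, by rw [LinearMap.toMatrix'_mulVec]; exact hu,
        by rw [LinearMap.toMatrix'_mulVec]; exact hu'⟩)
  refine SemidirectProduct.ext ?_ ?_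
  · rw [h1, SemidirectProduct.one_left, ← ofAdd_zero]
    congr 1
    funext j
    have h3 : (∑ i ∈ Finset.range (2 ^ cr.1 * cr.2), M ^ i).mulVec (w j) = 0 := by
      rw [hs, Matrix.zero_mulVec]
    rw [Matrix.sum_mulVec, Finset.sum_congr rfl fun i _ => hiter i _] at h3
    exact h3
  · rw [h2, SemidirectProduct.one_right]
    refine Subtype.ext (Subtype.ext (LinearEquiv.ext fun u => ?_))
    simp only [SubgroupClass.coe_pow]
    show (f ^ _) u = u
    rw [← hiter, hpow, Matrix.one_mulVec]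

theorem exists_H8_order (hk : 0 < k) {n : ℕ} (h : Realised a b n) : ∃ x : H8 hab k, orderOf x = n := by
  obtain ⟨⟨g, hg, hgd, hgn⟩, -⟩ := h
  let G : L8 hab := ⟨⟨g, hg⟩, congrArg Multiplicative.ofAdd hgd⟩
  have hG : orderOf G = orderOf g := by
    rw [← orderOf_injective (L8 hab).subtype Subtype.coe_injective,
      ← orderOf_injective (orth (Q8 a b)).subtype Subtype.coe_injective]
    rfl
  rcases hgn with hn | ⟨hn, x, hx⟩
  · exact ⟨SemidirectProduct.inr G, by
      rw [orderOf_injective _ SemidirectProduct.inr_injective, hG, hn]⟩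
  · let w : Fin k → V8 F := Pi.single ⟨0, hk⟩ x
    let p : H8 hab k := ⟨Multiplicative.ofAdd w, G⟩
    refine ⟨p, ?_⟩
    set m := orderOf g with hm
    have hm0 : 0 < m := by
      haveI := finite_lequiv (F := F)
      exact orderOf_pos g
    have hdvd : orderOf p ∣ m * 2 := by
      refine orderOf_dvd_of_pow_eq_one (SemidirectProduct.ext ?_ ?_)
      · rw [(pow_pair hab k w G _).1, SemidirectProduct.one_left, ← ofAdd_zero]
        congr 1
        funext j
        show ∑ i ∈ Finset.range (m * 2), (g ^ i) (w j) = 0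
        rw [sum_range_mul_periodic g (pow_orderOf_eq_one g), show ((2 : ℕ) : F) = 0 from CharP.cast_eq_zero F 2,
          zero_smul]
      · rw [(pow_pair hab k w G _).2, SemidirectProduct.one_right, ← hG.trans hm.symm, pow_mul,
          pow_orderOf_eq_one, one_pow]
    have hmd : m ∣ orderOf p := by
      rw [← hG]
      have := orderOf_map_dvd (SemidirectProduct.rightHom (φ := act hab k)) p
      exact this
    obtain ⟨c, hc⟩ := hmd
    rw [hc, Nat.mul_dvd_mul_iff_left hm0, Nat.dvd_prime Nat.prime_two] at hdvd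
    rcases hdvd with rfl | rfl
    · exfalso
      have h1 := (pow_pair hab k w G (m * 1)).1
      rw [show p ^ (m * 1) = 1 by rw [← hc]; exact pow_orderOf_eq_one p, SemidirectProduct.one_left,
        ← ofAdd_zero] at h1
      have h3 : (0 : Fin k → V8 F) ⟨0, hk⟩ = ∑ i ∈ Finset.range (m * 1), (g ^ i) (w ⟨0, hk⟩) :=
        congrFun (Multiplicative.ofAdd.injective h1) _
      refine hx 1 odd_one ?_
      rw [show w ⟨0, hk⟩ = x from Pi.single_eq_same _ _, Pi.zero_apply] at h3
      exact h3.symm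
    · rw [hc, hn, mul_comm]

theorem range_H8 (hφ : ∃ φ : F →+ ZMod 2, φ ≠ 0) (hk : 0 < k) :
    Set.range (orderOf : H8 hab k → ℕ) = dset (Fintype.card F) := by
  obtain ⟨φ, hφ⟩ := hφ
  haveI := finite_lequiv (F := F)
  haveI : Finite (H8 hab k) := Finite.of_equiv _ SemidirectProduct.equivProd.symm
  exact range_orderOf (orderOf_H8_mem hab k) fun cr hcr =>
    exists_H8_order hab k hk (realised_top hφ hab hcr)

end SD

/-! ### The symplectic group -/

theorem center_sp_eq_bot : Subgroup.center (Matrix.symplecticGroup (Fin 4) F) = ⊥ := by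
  refine (Subgroup.eq_bot_iff_forall _).2 fun g hg => ?_
  rcases Classical.mem_center_sp_iff.1 hg with h | h
  · exact Subtype.ext h
  · exact Subtype.ext (h.trans (by
      ext i j; simp [CharTwo.neg_eq]))

theorem exists_sp_order (hab : ∀ z₁ z₂ : F, z₁ ^ 2 + a * z₁ * z₂ + b * z₂ ^ 2 = 0 → z₁ = 0 ∧ z₂ = 0)
    {n : ℕ} (h : Realised a b n) : ∃ g : Matrix.symplecticGroup (Fin 4) F, orderOf g = n := by
  obtain ⟨-, f, hf, hfn⟩ := h
  let B : LinearMap.BilinForm F (V8 F) := polarBilin (Q8 a b)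
  obtain ⟨m, k, e, h1, h2, h3, h4⟩ := exists_sympBasis_aux (Module.finrank F (V8 F)) rfl B
    (fun v => polar_self_zero (Q8 a b) v)
  have hk : k = 0 := by
    by_contra hk
    exact e.ne_zero (Sum.inr ⟨0, Nat.pos_of_ne_zero hk⟩) ((Q8_nondeg hab).1 _ fun v => h4 _ v)
  subst hk
  have hm : m = 4 := by
    have := Module.finrank_eq_card_basis e
    rw [Module.finrank_fintype_fun_eq_card] at this
    simp at this
    omega
  subst hm
  let e' : Module.Basis (Fin 4 ⊕ Fin 4) F (V8 F) := e.reindex (Equiv.sumEmpty _ _)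
  have he : ∀ i, e' i = e (Sum.inl i) := fun i => by simp [e']
  have hsymm : ∀ u v, B u v = B v u := fun u v => polar_comm (Q8 a b) u v
  have hJ : LinearMap.BilinForm.toMatrix e' B = Matrix.J (Fin 4) F := by
    ext (i | i) (j | j) <;> rw [LinearMap.BilinForm.toMatrix_apply, he, he]
    · rw [h2]; simp [Matrix.J]
    · rw [h1]; simp [Matrix.J, Matrix.one_apply, CharTwo.neg_eq]
    · rw [hsymm, h1]; simp [Matrix.J, Matrix.one_apply, eq_comm]
    · rw [h3]; simp [Matrix.J]
  have hmem : ∀ g : V8 F ≃ₗ[F] V8 F, (∀ v w, polar (Q8 a b) (g v) (g w) = polar (Q8 a b) v w) →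
      LinearMap.toMatrixAlgEquiv e' g.toLinearMap ∈ Matrix.symplecticGroup (Fin 4) F := by
    intro g hg
    rw [SymplecticGroup.mem_iff', ← hJ]
    have h := LinearMap.BilinForm.toMatrix_comp e' e' B g.toLinearMap g.toLinearMap
    rw [show B.comp g.toLinearMap g.toLinearMap = B from LinearMap.ext₂ hg] at h
    exact h.symm
  let S : Subgroup (V8 F ≃ₗ[F] V8 F) :=
    { carrier := {g | ∀ v w, polar (Q8 a b) (g v) (g w) = polar (Q8 a b) v w}
      mul_mem' := fun {g g'} hg hg' v w => (hg (g' v) (g' w)).trans (hg' v w)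
      one_mem' := fun _ _ => rfl
      inv_mem' := fun {g} hg v w => by
        show polar (Q8 a b) (g.symm v) (g.symm w) = _
        rw [← hg (g.symm v) (g.symm w), g.apply_symm_apply, g.apply_symm_apply] }
  let ψ : S →* Matrix.symplecticGroup (Fin 4) F :=
    { toFun := fun g => ⟨_, hmem g.1 g.2⟩
      map_one' := Subtype.ext (map_one (LinearMap.toMatrixAlgEquiv e'))
      map_mul' := fun g g' => Subtype.ext (map_mul (LinearMap.toMatrixAlgEquiv e') g.1.toLinearMap g'.1.toLinearMap) }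
  have hψ : Function.Injective ψ := fun g g' h =>
    Subtype.ext (LinearEquiv.toLinearMap_injective ((LinearMap.toMatrixAlgEquiv e').injective (congrArg Subtype.val h)))
  refine ⟨ψ ⟨f, hf⟩, ?_⟩
  rw [orderOf_injective _ hψ, ← hfn, ← orderOf_injective S.subtype Subtype.coe_injective]
  rfl

theorem range_sp : Set.range (orderOf : Matrix.symplecticGroup (Fin 4) F → ℕ) = dset (Fintype.card F) := by
  obtain ⟨φ, hφ⟩ := exists_phi (F := F)
  obtain ⟨a, b, hab⟩ := CfsgLib.KnownB.OrthPrime.exists_aniso_binary (F := F)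
  haveI : Finite (Matrix.symplecticGroup (Fin 4) F) := Subtype.finite
  refine range_orderOf (fun g => ?_) fun cr hcr => exists_sp_order hab (realised_top hφ hab hcr)
  obtain ⟨cr, hcr, hpow, -⟩ := exists_top_pow (M := g.1) (J := Matrix.J (Fin 4) F) (by simp)
    (Matrix.isUnit_det_J (Fin 4) F) (SymplecticGroup.mem_iff'.1 g.2)
  exact ⟨cr, hcr, orderOf_dvd_of_pow_eq_one (Subtype.ext hpow)⟩

/-- `PSp₈(q)` has the same element orders as `V^k ⋊ Ω₈⁻(q)`. -/
theorem range_psp : Set.range (orderOf : Cfsg.PSp 4 F → ℕ) = dset (Fintype.card F) := by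
  let e : Cfsg.PSp 4 F ≃* Matrix.symplecticGroup (Fin 4) F :=
    (QuotientGroup.quotientMulEquivOfEq center_sp_eq_bot).trans QuotientGroup.quotientBot
  rw [← range_sp, ← e.symm.toEquiv.surjective.range_comp]
  exact congrArg Set.range (funext fun g => e.symm.orderOf_eq g)

/-- Groups of arbitrarily large order with the element orders of `PSp₈(q)`. -/
theorem exists_large (M : ℕ) : ∃ (H : Type) (_ : Group H) (_ : Fintype H), M < Fintype.card H ∧
    Set.range (orderOf : H → ℕ) = Set.range (orderOf : Cfsg.PSp 4 F → ℕ) := by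
  obtain ⟨a, b, hab⟩ := CfsgLib.KnownB.OrthPrime.exists_aniso_binary (F := F)
  haveI := finite_lequiv (F := F)
  haveI : Finite (H8 hab (M + 1)) := Finite.of_equiv _ SemidirectProduct.equivProd.symm
  haveI : Small.{0} (H8 hab (M + 1)) := Countable.toSmall _
  let H := Shrink.{0} (H8 hab (M + 1))
  haveI : Finite H := Finite.of_equiv _ (equivShrink _)
  letI : Fintype H := Fintype.ofFinite H
  let em : H ≃* H8 hab (M + 1) := Shrink.mulEquiv
  refine ⟨H, inferInstance, inferInstance, ?_, ?_⟩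
  · rw [← Nat.card_eq_fintype_card, Nat.card_congr em.toEquiv]
    show M < Nat.card (H8 hab (M + 1))
    rw [SemidirectProduct.card]
    have h2 : 2 ≤ Nat.card (V8 F) := Finite.one_lt_card
    calc M < M + 1 := Nat.lt_succ_self M
      _ < 2 ^ (M + 1) := Nat.lt_two_pow_self
      _ ≤ Nat.card (Multiplicative (Fin (M + 1) → V8 F)) := by
          rw [Nat.card_congr Multiplicative.toAdd, Nat.card_fun, Nat.card_fin]
          exact Nat.pow_le_pow_left h2 _
      _ ≤ _ := Nat.le_mul_of_pos_right _ Nat.card_pos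
  · rw [range_psp, ← range_H8 hab (M + 1) exists_phi (Nat.succ_pos M),
      ← em.toEquiv.surjective.range_comp]
    exact congrArg Set.range (funext fun g => (em.orderOf_eq g).symm)

end CfsgLib.Spec8
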