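import Cfsg.Agent.Lib.Geometry.WallForm

/-! Unipotent isometries and symplectic maps in characteristic two from a frame of vectors. -/

set_option autoImplicit false

namespace CfsgLib.Spec8

open QuadraticMap CfsgLib.Geometry

variable {F X : Type*} [Field F] [CharP F 2] [AddCommGroup X] [Module F X]

theorem polar_self_zero (Q : QuadraticForm F X) (v : X) : polar Q v v = 0 := by
  rw [polar_self', CharTwo.two_eq_zero, zero_mul]

theorem polar_smul_l (Q : QuadraticForm F X) (a : F) (u v : X) :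
    polar Q (a • u) v = a * polar Q u v := polar_smul_left' Q a u v

/-- The Siegel map attached to a singular `e` and a unit vector `z` orthogonal to it. -/
noncomputable def siegel (Q : QuadraticForm F X) (e z : X) (hz : Q z ≠ 0) (hze : Q (z + e) ≠ 0) :
    X ≃ₗ[F] X :=
  refl Q z hz * refl Q (z + e) hze

theorem siegel_apply {Q : QuadraticForm F X} {e z : X} (hz : Q z ≠ 0) (hze : Q (z + e) ≠ 0)
    (hz1 : Q z = 1) (he : Q e = 0) (hez : polar Q e z = 0) (v : X) :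
    siegel Q e z hz hze v = v + polar Q v z • e + polar Q v e • (z + e) := by
  have h1 : Q (z + e) = 1 := by rw [map_add', hz1, he, polar_comm Q z e, hez, add_zero, add_zero]
  show refl Q z hz (refl Q (z + e) hze v) = _
  simp only [refl_apply, h1, hz1, inv_one, one_mul, polar_sub_left, polar_smul_l, polar_add_right,
    polar_add_left, polar_self_zero, hez, CharTwo.sub_eq_add]
  match_scalars <;> grind [CharTwo.two_eq_zero]

theorem dickson_siegel [FiniteDimensional F X] {Q : QuadraticForm F X} (hQ : (polarBilin Q).Nondegenerate)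
    {e z : X} (hz : Q z ≠ 0) (hze : Q (z + e) ≠ 0) : dickson (siegel Q e z hz hze) = 0 := by
  rw [siegel, dickson_mul_refl hQ (refl_mem_orth Q _ hz), dickson_refl hQ, CharTwo.add_self_eq_zero]

theorem dickson_mul_siegel [FiniteDimensional F X] {Q : QuadraticForm F X}
    (hQ : (polarBilin Q).Nondegenerate) {g : X ≃ₗ[F] X} (hg : g ∈ orth Q)
    {e z : X} (hz : Q z ≠ 0) (hze : Q (z + e) ≠ 0) :
    dickson (g * siegel Q e z hz hze) = dickson g := by
  rw [siegel, ← mul_assoc, dickson_mul_refl hQ (mul_mem hg (refl_mem_orth Q _ hz)),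
    dickson_mul_refl hQ hg, add_assoc, CharTwo.add_self_eq_zero, add_zero]

/-- The linear map `v ↦ v + B(v, z) z`. -/
noncomputable def tvec (Q : QuadraticForm F X) (z : X) : X ≃ₗ[F] X :=
  LinearEquiv.ofInvolutive (LinearMap.id + (polarLeft Q z).smulRight z) fun v => by
    simp only [LinearMap.add_apply, LinearMap.id_apply, LinearMap.smulRight_apply, polarLeft_apply,
      polar_add_left, polar_smul_l, polar_self_zero]
    match_scalars <;> grind [CharTwo.two_eq_zero]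

theorem tvec_apply (Q : QuadraticForm F X) (z v : X) : tvec Q z v = v + polar Q v z • z := rfl

theorem tvec_polar (Q : QuadraticForm F X) (z u v : X) :
    polar Q (tvec Q z u) (tvec Q z v) = polar Q u v := by
  simp only [tvec_apply, polar_add_left, polar_add_right, polar_smul_l, polar_smul_right',
    polar_self_zero, polar_comm Q z v]
  grind

/-- The map `v ↦ v + B(v, w) e + B(v, e) w` for orthogonal `e`, `w`. -/
noncomputable def tpair (Q : QuadraticForm F X) (e w : X) (h : polar Q e w = 0) : X ≃ₗ[F] X :=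
  LinearEquiv.ofInvolutive
    (LinearMap.id + (polarLeft Q w).smulRight e + (polarLeft Q e).smulRight w) fun v => by
    simp only [LinearMap.add_apply, LinearMap.id_apply, LinearMap.smulRight_apply, polarLeft_apply,
      polar_add_left, polar_smul_l, polar_self_zero, h, polar_comm Q w e]
    match_scalars <;> grind [CharTwo.two_eq_zero]

theorem tpair_apply (Q : QuadraticForm F X) {e w : X} (h : polar Q e w = 0) (v : X) :
    tpair Q e w h v = v + polar Q v w • e + polar Q v e • w := rfl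

theorem tpair_polar (Q : QuadraticForm F X) {e w : X} (h : polar Q e w = 0) (u v : X) :
    polar Q (tpair Q e w h u) (tpair Q e w h v) = polar Q u v := by
  simp only [tpair_apply, polar_add_left, polar_add_right, polar_smul_l, polar_smul_right',
    polar_self_zero, polar_comm Q w v, polar_comm Q e v, h, polar_comm Q w e]
  grind

/-- A hyperbolic pair `e₂, f₂` and two vectors `z, z₁` orthogonal to it. -/
structure Frame (Q : QuadraticForm F X) (e₂ f₂ z z₁ : X) : Prop where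
  qe : Q e₂ = 0
  qz : Q z = 1
  ef : polar Q e₂ f₂ = 1
  ez : polar Q e₂ z = 0
  ez₁ : polar Q e₂ z₁ = 0
  fz : polar Q f₂ z = 0
  fz₁ : polar Q f₂ z₁ = 0
  zz : polar Q z₁ z ≠ 0

/-- A second hyperbolic pair orthogonal to a frame. -/
structure Frame₂ (Q : QuadraticForm F X) (e₁ f₁ e₂ f₂ z z₁ : X) : Prop extends
    Frame Q e₂ f₂ z z₁ where
  qe₁ : Q e₁ = 0
  qf₂ : Q f₂ = 0
  ef₁ : polar Q e₁ f₁ = 1
  e₁e₂ : polar Q e₁ e₂ = 0
  e₁f₂ : polar Q e₁ f₂ = 0
  e₁z : polar Q e₁ z = 0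
  e₁z₁ : polar Q e₁ z₁ = 0
  f₁e₂ : polar Q f₁ e₂ = 0
  f₁f₂ : polar Q f₁ f₂ = 0
  f₁z : polar Q f₁ z = 0
  f₁z₁ : polar Q f₁ z₁ = 0

theorem ne_zero_of_polar {Q : QuadraticForm F X} {u v : X} (h : polar Q u v ≠ 0) : u ≠ 0 :=
  fun h0 => h (by rw [h0, QuadraticMap.polar_zero_left])

theorem orderOf_two {g : X ≃ₗ[F] X} {n : ℕ} (h : ∀ v, (g ^ 2 ^ (n + 1)) v = v) {x : X}
    (hx : (g ^ 2 ^ n) x ≠ x) : orderOf g = 2 ^ (n + 1) :=
  haveI : Fact (Nat.Prime 2) := ⟨Nat.prime_two⟩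
  orderOf_eq_prime_pow (fun h' => hx (by rw [h']; rfl)) (LinearEquiv.ext h)

variable {Q : QuadraticForm F X} {e₁ f₁ e₂ f₂ z z₁ : X}

theorem Frame.qze (h : Frame Q e₂ f₂ z z₁) : Q (z + e₂) = 1 := by
  rw [map_add', h.qz, h.qe, polar_comm Q z e₂, h.ez, add_zero, add_zero]

theorem Frame.unip [FiniteDimensional F X] (hQ : (polarBilin Q).Nondegenerate) (h : Frame Q e₂ f₂ z z₁) :
    ∃ u : X ≃ₗ[F] X, u ∈ orth Q ∧ dickson u = 0 ∧ orderOf u = 2 ∧
      ∑ i ∈ Finset.range 2, (u ^ i) f₂ ≠ 0 := by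
  have hz : Q z ≠ 0 := by rw [h.qz]; exact one_ne_zero
  have hze : Q (z + e₂) ≠ 0 := by rw [h.qze]; exact one_ne_zero
  let u := siegel Q e₂ z hz hze
  have hu : ∀ v, u v = v + polar Q v z • e₂ + polar Q v e₂ • (z + e₂) :=
    siegel_apply hz hze h.qz h.qe h.ez
  have huf : u f₂ = f₂ + (z + e₂) := by
    rw [hu, h.fz, polar_comm Q f₂ e₂, h.ef, zero_smul, one_smul, add_zero]
  have hne : z + e₂ ≠ 0 := fun h0 => hze (by rw [h0, QuadraticMap.map_zero])
  refine ⟨u, mul_mem (refl_mem_orth Q _ hz) (refl_mem_orth Q _ hze), dickson_siegel hQ hz hze,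
    orderOf_two (n := 0) (fun v => ?_) (x := f₂) ?_, ?_⟩
  · show u (u v) = v
    simp only [hu, polar_add_left, polar_smul_l, polar_self_zero, h.ez, polar_comm Q z e₂]
    match_scalars <;> grind [CharTwo.two_eq_zero]
  · show u f₂ ≠ f₂
    rw [huf]; exact fun h0 => hne (add_eq_left.1 h0)
  · rw [Finset.sum_range_succ, Finset.sum_range_one, pow_zero, pow_one]
    show f₂ + u f₂ ≠ 0
    rw [huf, show f₂ + (f₂ + (z + e₂)) = z + e₂ by
      rw [← add_assoc, ← two_smul F f₂, CharTwo.two_eq_zero, zero_smul, zero_add]]; exact hne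

theorem Frame.sympl (h : Frame Q e₂ f₂ z z₁) :
    ∃ u : X ≃ₗ[F] X, (∀ v w, polar Q (u v) (u w) = polar Q v w) ∧ orderOf u = 4 := by
  set β := polar Q z₁ z with hβ
  let u := tpair Q e₂ z₁ h.ez₁ * tvec Q z
  have hu : ∀ v, u v = v + polar Q v z • z + (polar Q v z₁ + polar Q v z * β) • e₂ +
      polar Q v e₂ • z₁ := fun v => by
    show tpair Q e₂ z₁ h.ez₁ (tvec Q z v) = _
    simp only [tpair_apply, tvec_apply, polar_add_left, polar_smul_l, polar_comm Q z z₁, ← hβ,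
      polar_comm Q z e₂, h.ez]
    match_scalars <;> grind [CharTwo.two_eq_zero]
  have e2 : u e₂ = e₂ := by simp [hu, h.ez, h.ez₁, CharTwo.two_eq_zero]
  have ez : u z = z + β • e₂ := by
    simp [hu, CharTwo.two_eq_zero, polar_comm Q z e₂, h.ez, polar_comm Q z z₁, ← hβ]
  have ez1 : u z₁ = z₁ + β • z + (β * β) • e₂ := by
    simp [hu, CharTwo.two_eq_zero, polar_comm Q z₁ e₂, h.ez₁, ← hβ]
  have h2 : ∀ v, (u ^ 2) v = v + polar Q v e₂ • (β • z + (β * β) • e₂) + (polar Q v z * β) • e₂ := by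
    intro v
    show u (u v) = _
    rw [hu v]
    simp only [map_add, map_smul, e2, ez, ez1]
    rw [hu v]
    match_scalars <;> grind [CharTwo.two_eq_zero]
  refine ⟨u, fun v w => ?_, orderOf_two (n := 1) (fun v => ?_) (x := f₂) ?_⟩
  · exact (tpair_polar Q h.ez₁ _ _).trans (tvec_polar Q z v w)
  · show (u ^ (2 + 2)) v = v
    rw [pow_add, LinearEquiv.mul_apply, h2 v]
    simp only [map_add, map_smul, h2 e₂, h2 z, polar_self_zero, h.ez, polar_comm Q z e₂]
    rw [h2 v]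
    match_scalars <;> grind [CharTwo.two_eq_zero]
  · show (u ^ 2) f₂ ≠ f₂
    rw [h2, h.fz, polar_comm Q f₂ e₂, h.ef, zero_mul, zero_smul, add_zero, one_smul]
    intro h0
    have h1 := congrArg (fun w => polar Q w z₁) (add_eq_left.1 h0)
    simp only [polar_add_left, polar_smul_l, h.ez₁, polar_comm Q z z₁, ← hβ,
      QuadraticMap.polar_zero_left, mul_zero, add_zero] at h1
    exact h.zz (by simpa using h1)

theorem Frame₂.unip [FiniteDimensional F X] (hQ : (polarBilin Q).Nondegenerate)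
    (h : Frame₂ Q e₁ f₁ e₂ f₂ z z₁) :
    ∃ u : X ≃ₗ[F] X, u ∈ orth Q ∧ dickson u = 0 ∧ orderOf u = 4 ∧
      ∑ i ∈ Finset.range 4, (u ^ i) f₁ ≠ 0 := by
  have hz : Q z ≠ 0 := by rw [h.qz]; exact one_ne_zero
  have hze : Q (z + e₂) ≠ 0 := by rw [h.toFrame.qze]; exact one_ne_zero
  have hze₁ : Q (z + e₁) = 1 := by
    rw [map_add', h.qz, h.qe₁, polar_comm Q z e₁, h.e₁z, add_zero, add_zero]
  have hzf : Q (f₂ + z) = 1 := by
    rw [map_add', h.qz, h.qf₂, h.fz, zero_add, add_zero]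
  have hefz : polar Q e₁ (f₂ + z) = 0 := by rw [polar_add_right, h.e₁f₂, h.e₁z, add_zero]
  have hzfe : Q (f₂ + z + e₁) = 1 := by
    rw [map_add', hzf, h.qe₁, polar_comm Q (f₂ + z) e₁, hefz, add_zero, add_zero]
  have n1 : Q (z + e₁) ≠ 0 := by rw [hze₁]; exact one_ne_zero
  have n2 : Q (f₂ + z) ≠ 0 := by rw [hzf]; exact one_ne_zero
  have n3 : Q (f₂ + z + e₁) ≠ 0 := by rw [hzfe]; exact one_ne_zero
  let s₂ := siegel Q e₂ z hz hze
  let sa := siegel Q e₁ (f₂ + z) n2 n3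
  let sb := siegel Q e₁ z hz n1
  let u := s₂ * sa * sb
  have hmem : ∀ {e w : X} (p : Q w ≠ 0) (p' : Q (w + e) ≠ 0), siegel Q e w p p' ∈ orth Q :=
    fun p p' => mul_mem (refl_mem_orth Q _ p) (refl_mem_orth Q _ p')
  have hL : ∀ v, sa (sb v) = v + polar Q v f₂ • e₁ + polar Q v e₁ • f₂ := fun v => by
    rw [siegel_apply n2 n3 hzf h.qe₁ hefz, siegel_apply hz n1 h.qz h.qe₁ h.e₁z]
    simp only [polar_add_left, polar_add_right, polar_smul_l, polar_self_zero, h.e₁f₂, h.e₁z,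
      polar_comm Q z f₂, h.fz, polar_comm Q z e₁]
    match_scalars <;> grind [CharTwo.two_eq_zero]
  have hu : ∀ v, u v = v + polar Q v f₂ • e₁ + polar Q v e₁ • f₂ + polar Q v z • e₂ +
      (polar Q v e₂ + polar Q v e₁) • (z + e₂) := fun v => by
    show s₂ (sa (sb v)) = _
    rw [hL, siegel_apply hz hze h.qz h.qe h.ez]
    simp only [polar_add_left, polar_smul_l, h.e₁z, h.fz, h.e₁e₂, polar_comm Q f₂ e₂, h.ef]
    match_scalars <;> grind [CharTwo.two_eq_zero]
  have a1 : u e₁ = e₁ := by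
    simp [hu, CharTwo.two_eq_zero, h.e₁f₂, h.e₁z, h.e₁e₂]
  have a2 : u f₂ = f₂ + (z + e₂) := by
    simp [hu, CharTwo.two_eq_zero, h.fz, polar_comm Q f₂ e₁, h.e₁f₂, polar_comm Q f₂ e₂, h.ef]
  have a3 : u e₂ = e₂ + e₁ := by
    simp [hu, CharTwo.two_eq_zero, h.ef, polar_comm Q e₂ e₁, h.e₁e₂, h.ez]
  have a4 : u z = z := by
    simp [hu, CharTwo.two_eq_zero, polar_comm Q z f₂, h.fz, polar_comm Q z e₁, h.e₁z,
      polar_comm Q z e₂, h.ez]
  have h2 : ∀ v, (u ^ 2) v = v + (polar Q v z + polar Q v e₂ + polar Q v e₁) • e₁ +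
      polar Q v e₁ • (z + e₂) := fun v => by
    show u (u v) = _
    rw [hu v]
    simp only [map_add, map_smul, a1, a2, a3, a4]
    rw [hu v]
    match_scalars <;> grind [CharTwo.two_eq_zero]
  have x1 : u f₁ = f₁ + f₂ + (z + e₂) := by
    rw [hu, h.f₁f₂, polar_comm Q f₁ e₁, h.ef₁, h.f₁z, h.f₁e₂]
    simp only [zero_smul, one_smul, add_zero, zero_add]
  refine ⟨u, mul_mem (mul_mem (hmem _ _) (hmem _ _)) (hmem _ _), ?_,
    orderOf_two (n := 1) (fun v => ?_) (x := f₁) ?_, ?_⟩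
  · rw [dickson_mul_siegel hQ (mul_mem (hmem _ _) (hmem _ _)),
      dickson_mul_siegel hQ (hmem _ _), dickson_siegel hQ]
  · show (u ^ (2 + 2)) v = v
    rw [pow_add, LinearEquiv.mul_apply, h2 v]
    simp only [map_add, map_smul, h2 e₁, h2 z, h2 e₂, polar_self_zero, h.e₁z, h.e₁e₂,
      polar_comm Q z e₂, h.ez, polar_comm Q z e₁, polar_comm Q e₂ e₁]
    rw [h2 v]
    match_scalars <;> grind [CharTwo.two_eq_zero]
  · show (u ^ 2) f₁ ≠ f₁
    rw [h2, h.f₁z, h.f₁e₂, polar_comm Q f₁ e₁, h.ef₁]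
    intro h0
    have h1 := congrArg (fun w => polar Q w f₂) h0
    simp only [polar_add_left, polar_smul_l, h.f₁f₂, h.e₁f₂, h.ef, polar_comm Q z f₂, h.fz] at h1
    grind
  · simp only [Finset.sum_range_succ, Finset.sum_range_zero, zero_add]
    rw [show (u ^ 3) f₁ = u ((u ^ 2) f₁) by rw [pow_succ']; rfl, h2, pow_one, x1, pow_zero,
      show (1 : X ≃ₗ[F] X) f₁ = f₁ from rfl, h.f₁z, h.f₁e₂, polar_comm Q f₁ e₁, h.ef₁]
    simp only [map_add, map_smul, x1, a1, a3, a4]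
    intro h0
    have h1 := congrArg (fun w => polar Q w f₁) h0
    simp only [polar_add_left, polar_smul_l, polar_self_zero, polar_comm Q f₂ f₁, h.f₁f₂, h.ef₁,
      polar_comm Q z f₁, h.f₁z, polar_comm Q e₂ f₁, h.f₁e₂, QuadraticMap.polar_zero_left] at h1
    grind

theorem Frame₂.sympl (h : Frame₂ Q e₁ f₁ e₂ f₂ z z₁) :
    ∃ u : X ≃ₗ[F] X, (∀ v w, polar Q (u v) (u w) = polar Q v w) ∧ orderOf u = 8 := by
  set β := polar Q z₁ z with hβ
  let u := tpair Q e₂ z₁ h.ez₁ * tvec Q z * tpair Q e₁ f₂ h.e₁f₂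
  have hu : ∀ v, u v = v + polar Q v f₂ • e₁ + polar Q v e₁ • f₂ + polar Q v z • z +
      (polar Q v z₁ + polar Q v z * β) • e₂ + (polar Q v e₂ + polar Q v e₁) • z₁ := fun v => by
    show tpair Q e₂ z₁ h.ez₁ (tvec Q z (tpair Q e₁ f₂ h.e₁f₂ v)) = _
    simp only [tpair_apply, tvec_apply, polar_add_left, polar_smul_l, polar_comm Q z z₁, ← hβ,
      polar_comm Q z e₂, h.ez, h.e₁z, h.fz, h.e₁z₁, h.fz₁, h.e₁e₂, polar_comm Q f₂ e₂, h.ef]
    match_scalars <;> grind [CharTwo.two_eq_zero]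
  have a1 : u e₁ = e₁ := by
    simp [hu, CharTwo.two_eq_zero, h.e₁f₂, h.e₁z, h.e₁z₁, h.e₁e₂]
  have a2 : u f₂ = f₂ + z₁ := by
    simp [hu, CharTwo.two_eq_zero, h.fz, h.fz₁, polar_comm Q f₂ e₁, h.e₁f₂, polar_comm Q f₂ e₂, h.ef]
  have a3 : u e₂ = e₂ + e₁ := by
    simp [hu, CharTwo.two_eq_zero, h.ef, polar_comm Q e₂ e₁, h.e₁e₂, h.ez, h.ez₁]
  have a4 : u z = z + β • e₂ := by
    simp [hu, CharTwo.two_eq_zero, polar_comm Q z f₂, h.fz, polar_comm Q z e₁, h.e₁z,
      polar_comm Q z e₂, h.ez, polar_comm Q z z₁, ← hβ]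
  have a5 : u z₁ = z₁ + β • z + (β * β) • e₂ := by
    simp [hu, CharTwo.two_eq_zero, polar_comm Q z₁ f₂, h.fz₁, polar_comm Q z₁ e₁, h.e₁z₁,
      polar_comm Q z₁ e₂, h.ez₁, ← hβ]
  have h2 : ∀ v, (u ^ 2) v = v + polar Q v e₁ • z₁ +
      (polar Q v z₁ + polar Q v z * β) • e₁ + (polar Q v z * β) • e₂ +
      (polar Q v e₂ + polar Q v e₁) • (β • z + (β * β) • e₂) := fun v => by
    show u (u v) = _
    rw [hu v]
    simp only [map_add, map_smul, a1, a2, a3, a4, a5]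
    rw [hu v]
    match_scalars <;> grind [CharTwo.two_eq_zero]
  have b1 : (u ^ 2) e₁ = e₁ := by
    simp [h2, CharTwo.two_eq_zero, h.e₁z, h.e₁z₁, h.e₁e₂]
  have b2 : (u ^ 2) e₂ = e₂ := by
    simp [h2, CharTwo.two_eq_zero, polar_comm Q e₂ e₁, h.e₁e₂, h.ez, h.ez₁]
  have h4 : ∀ v, (u ^ 4) v = v + (polar Q v e₁ * β * β) • (e₂ + e₁) +
      ((polar Q v e₂ + polar Q v e₁) * β * β) • e₁ := fun v => by
    show (u ^ (2 + 2)) v = _
    rw [pow_add, LinearEquiv.mul_apply, h2 v]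
    simp only [map_add, map_smul, b1, b2, h2 z, h2 z₁, polar_self_zero, h.ez, h.ez₁, h.e₁z, h.e₁z₁,
      polar_comm Q z e₁, polar_comm Q z₁ e₁, polar_comm Q z e₂, polar_comm Q z₁ e₂,
      polar_comm Q z z₁, ← hβ]
    rw [h2 v]
    match_scalars <;> grind [CharTwo.two_eq_zero]
  refine ⟨u, fun v w => ?_, orderOf_two (n := 2) (fun v => ?_) (x := f₁) ?_⟩
  · exact (tpair_polar Q h.ez₁ _ _).trans ((tvec_polar Q z _ _).trans (tpair_polar Q h.e₁f₂ v w))
  · show (u ^ (4 + 4)) v = v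
    rw [pow_add, LinearEquiv.mul_apply, h4 v]
    simp only [map_add, map_smul, h4 e₁, h4 e₂, polar_self_zero, h.e₁e₂, polar_comm Q e₂ e₁]
    rw [h4 v]
    match_scalars <;> grind [CharTwo.two_eq_zero]
  · show (u ^ 4) f₁ ≠ f₁
    rw [h4, h.f₁e₂, polar_comm Q f₁ e₁, h.ef₁]
    intro h0
    have h1 := congrArg (fun w => polar Q w f₂) h0
    simp only [polar_add_left, polar_smul_l, h.f₁f₂, h.e₁f₂, h.ef] at h1
    have hne : β * β ≠ 0 := mul_ne_zero h.zz h.zz
    grind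

end CfsgLib.Spec8
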