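import Cfsg.Agent.Lib.Spec8.Blocks
import Cfsg.Agent.Lib.Spec8.Unip
import Cfsg.Agent.Lib.Spec8.Bound

/-! Elements of all maximal orders in `Ω₈⁻(q)` acting on vectors and in `Sp₈(q)`. -/

set_option autoImplicit false

namespace CfsgLib.Spec8

open QuadraticMap CfsgLib.Geometry

universe w

variable {F : Type w} [Field F] [Fintype F] [CharP F 2]

/-- A unipotent block: an orthogonal involution of order `2 ^ c` with trivial Dickson invariant whose
sum kills no chosen vector, and a symplectic map of order `2 ^ (c + 1)`. -/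
def HasUnip (φ : F →+ ZMod 2) (dim : ℕ) (G : ℤ) (c : ℕ) : Prop :=
  ∃ (X : Type w) (_ : AddCommGroup X) (_ : Module F X) (_ : Fintype X) (_ : FiniteDimensional F X)
    (Q : QuadraticForm F X), (polarBilin Q).Nondegenerate ∧ Module.finrank F X = dim ∧
      gauss φ ⇑Q = G ∧
      (∃ u : X ≃ₗ[F] X, u ∈ orth Q ∧ dickson u = 0 ∧ orderOf u = 2 ^ c ∧
        ∃ x, ∑ i ∈ Finset.range (2 ^ c), (u ^ i) x ≠ 0) ∧
      ∃ u : X ≃ₗ[F] X, (∀ v w, polar Q (u v) (u w) = polar Q v w) ∧ orderOf u = 2 ^ (c + 1)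

/-- The hyperbolic plane `F × F`. -/
noncomputable def hypForm (F : Type w) [Field F] : QuadraticForm F (F × F) :=
  qOf ((LinearMap.mul F F).compl₁₂ (LinearMap.fst F F F) (LinearMap.snd F F F))

theorem hypForm_apply (p : F × F) : hypForm F p = p.1 * p.2 := rfl

theorem hypForm_polar (p p' : F × F) : polar (hypForm F) p p' = p.1 * p'.2 + p'.1 * p.2 := by
  simp only [polar, hypForm_apply, Prod.fst_add, Prod.snd_add]; ring

theorem hypForm_nondeg : (polarBilin (hypForm F)).Nondegenerate := by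
  constructor <;> intro u hu <;>
    refine Prod.ext (by simpa [hypForm_polar] using hu (0, 1)) (by simpa [hypForm_polar] using hu (1, 0))

theorem gauss_hypForm {φ : F →+ ZMod 2} (hφ : φ ≠ 0) : gauss φ ⇑(hypForm F) = Fintype.card F :=
  gauss_mul hφ

/-- A unit vector and a partner in a nonzero nondegenerate space. -/
theorem exists_unit {X : Type*} [AddCommGroup X] [Module F X] {Q : QuadraticForm F X}
    (hQ : (polarBilin Q).Nondegenerate) (hX : Module.finrank F X ≠ 0) :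
    ∃ z z₁, Q z = 1 ∧ polar Q z₁ z ≠ 0 := by
  obtain ⟨v, hv⟩ : ∃ v, Q v ≠ 0 := by
    by_contra h; push Not at h
    haveI : Subsingleton X := ⟨fun a b => sub_eq_zero.1 (hQ.1 _ fun y => by
      rw [polarBilin_apply_apply, polar, h, h, h, sub_zero, sub_zero])⟩
    exact hX Module.finrank_zero_of_subsingleton
  obtain ⟨t, ht⟩ := exists_sqrt (Q v)⁻¹
  have hz : Q (t • v) = 1 := by rw [map_smul', ht, inv_mul_cancel₀ hv]
  refine ⟨t • v, ?_⟩
  by_contra h; push Not at h
  have h0 : t • v = 0 := hQ.2 _ fun y => by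
    by_contra hy
    exact h y hz |> hy
  rw [h0, QuadraticMap.map_zero] at hz
  exact zero_ne_one hz

theorem hasUnip_zero {φ : F →+ ZMod 2} {G : ℤ} {r : ℕ} (h : HasTorus φ 2 G r) :
    HasUnip φ 2 G 0 := by
  obtain ⟨P, _, _, _, _, QP, hQP, hd, hG, -⟩ := h
  let X := ULift.{w} P
  let Q : QuadraticForm F X := QP.comp ULift.moduleEquiv.toLinearMap
  have hQv : ∀ v, Q v = QP v.down := fun v => rfl
  have hp : ∀ u v : X, polar Q u v = polar QP u.down v.down := fun u v => rfl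
  have hQ : (polarBilin Q).Nondegenerate :=
    ⟨fun u hu => ULift.ext _ _ (hQP.1 _ fun y => hu ⟨y⟩),
      fun u hu => ULift.ext _ _ (hQP.2 _ fun y => hu ⟨y⟩)⟩
  have hd' : Module.finrank F X = 2 := by rw [ULift.moduleEquiv.finrank_eq, hd]
  obtain ⟨z, z₁, hz, hzz⟩ := exists_unit hQ (by omega)
  have hz0 : z ≠ 0 := fun h0 => by rw [h0, QuadraticMap.map_zero] at hz; exact zero_ne_one hz
  refine ⟨X, inferInstance, inferInstance, inferInstance, inferInstance, Q, hQ, hd',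
    (gauss_equiv φ Equiv.ulift ⇑QP).trans hG,
    ⟨1, one_mem _, dickson_one, by simp, z, by simpa using hz0⟩,
    tvec Q z, tvec_polar Q z, orderOf_two (n := 0) (fun v => ?_) (x := z₁) ?_⟩
  · show tvec Q z (tvec Q z v) = v
    simp only [tvec_apply, polar_add_left, polar_smul_l, polar_self_zero, mul_zero, add_zero]
    match_scalars <;> grind [CharTwo.two_eq_zero]
  · show tvec Q z z₁ ≠ z₁
    rw [tvec_apply]
    exact fun h0 => smul_ne_zero hzz hz0 (add_eq_left.1 h0)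

theorem polar_qprod {X Y : Type*} [AddCommGroup X] [Module F X] [AddCommGroup Y] [Module F Y]
    (Q : QuadraticForm F X) (R : QuadraticForm F Y) (u v : X × Y) :
    polar (Q.prod R) u v = polar Q u.1 v.1 + polar R u.2 v.2 := by
  simp only [polar, QuadraticMap.prod_apply, Prod.fst_add, Prod.snd_add]; ring

theorem hasUnip_one {φ : F →+ ZMod 2} (hφ : φ ≠ 0) {G : ℤ} {r : ℕ} (h : HasTorus φ 2 G r) :
    HasUnip φ 4 ((Fintype.card F : ℤ) * G) 1 := by
  obtain ⟨P, _, _, _, _, QP, hQP, hd, hG, -⟩ := h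
  obtain ⟨z, z₁, hz, hzz⟩ := exists_unit hQP (by omega)
  let Q := (hypForm F).prod QP
  have hQ : (polarBilin Q).Nondegenerate := nondeg_prod hypForm_nondeg hQP
  have hF : Frame Q ((1, 0), 0) ((0, 1), 0) ((0, 0), z) ((0, 0), z₁) := by
    constructor <;> simp [Q, polar_qprod, hypForm_apply, hypForm_polar, QuadraticMap.prod_apply, hz, hzz]
  obtain ⟨u, hu, hud, huo, hus⟩ := hF.unip hQ
  obtain ⟨s, hs, hso⟩ := hF.sympl
  exact ⟨(F × F) × P, inferInstance, inferInstance, inferInstance, inferInstance, Q, hQ,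
    by rw [Module.finrank_prod, Module.finrank_prod, Module.finrank_self, hd],
    by rw [gauss_qprod, gauss_hypForm hφ, hG], ⟨u, hu, hud, huo, _, hus⟩, s, hs, hso⟩

theorem hasUnip_two {φ : F →+ ZMod 2} (hφ : φ ≠ 0) {G : ℤ} {r : ℕ} (h : HasTorus φ 2 G r) :
    HasUnip φ 6 ((Fintype.card F : ℤ) * ((Fintype.card F : ℤ) * G)) 2 := by
  obtain ⟨P, _, _, _, _, QP, hQP, hd, hG, -⟩ := h
  obtain ⟨z, z₁, hz, hzz⟩ := exists_unit hQP (by omega)
  let Q := (hypForm F).prod ((hypForm F).prod QP)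
  have hQ : (polarBilin Q).Nondegenerate :=
    nondeg_prod hypForm_nondeg (nondeg_prod hypForm_nondeg hQP)
  have hF : Frame₂ Q ((1, 0), (0, 0), 0) ((0, 1), (0, 0), 0) ((0, 0), (1, 0), 0) ((0, 0), (0, 1), 0)
      ((0, 0), (0, 0), z) ((0, 0), (0, 0), z₁) := by
    constructor
    · constructor <;> simp [Q, polar_qprod, hypForm_apply, hypForm_polar, QuadraticMap.prod_apply, hz, hzz]
    all_goals simp [Q, polar_qprod, hypForm_apply, hypForm_polar, QuadraticMap.prod_apply]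
  obtain ⟨u, hu, hud, huo, hus⟩ := hF.unip hQ
  obtain ⟨s, hs, hso⟩ := hF.sympl
  exact ⟨(F × F) × (F × F) × P, inferInstance, inferInstance, inferInstance, inferInstance, Q, hQ,
    by simp [hd],
    by rw [gauss_qprod, gauss_qprod, gauss_hypForm hφ, hG], ⟨u, hu, hud, huo, _, hus⟩, s, hs, hso⟩

/-- The coordinate space of dimension eight. -/
abbrev V8 (F : Type w) : Type w := (Fin 3 ⊕ Fin 3) ⊕ Fin 2 → F

/-- The standard minus form in dimension eight. -/
noncomputable def Q8 (a b : F) : QuadraticForm F (V8 F) := matQuad (minusMat 3 F a b)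

theorem Q8_apply (a b : F) (v : V8 F) : Q8 a b v = Cfsg.quadFormMinus 3 F a b v :=
  congrFun (coe_matQuad_minus 3 a b) v

theorem Q8_nondeg {a b : F}
    (hab : ∀ z₁ z₂ : F, z₁ ^ 2 + a * z₁ * z₂ + b * z₂ ^ 2 = 0 → z₁ = 0 ∧ z₂ = 0) :
    (polarBilin (Q8 a b)).Nondegenerate := by
  have ha : a ≠ 0 := fun ha => by
    obtain ⟨t, ht⟩ := exists_sqrt b
    exact one_ne_zero (hab t 1 (by
      linear_combination ht + b * (CharTwo.two_eq_zero : (2 : F) = 0) + (t) * ha)).2
  apply nondegenerate_matQuad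
  rw [det_minus_gram]
  have : (4 * b - a * a : F) = -(a * a) := by
    linear_combination (2 * b) * (CharTwo.two_eq_zero : (2 : F) = 0)
  rw [this]
  simp [ha]

theorem Q8_refl {a b : F}
    (hab : ∀ z₁ z₂ : F, z₁ ^ 2 + a * z₁ * z₂ + b * z₂ ^ 2 = 0 → z₁ = 0 ∧ z₂ = 0) :
    reflGroup (Q8 a b) = orth (Q8 a b) :=
  reflGroup_eq_orth (Q8_nondeg hab) (Or.inl (by
    rw [Module.finrank_fintype_fun_eq_card]; simp))

/-- Conjugation along a linear equivalence. -/
def conjEq {X Y : Type*} [AddCommGroup X] [Module F X] [AddCommGroup Y] [Module F Y] (E : Y ≃ₗ[F] X) :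
    (X ≃ₗ[F] X) →* (Y ≃ₗ[F] Y) where
  toFun g := E.trans (g.trans E.symm)
  map_one' := LinearEquiv.ext fun v => E.symm_apply_apply v
  map_mul' g h := LinearEquiv.ext fun v => by
    show E.symm (g (h (E v))) = E.symm (g (E (E.symm (h (E v)))))
    rw [E.apply_symm_apply]

theorem conjEq_injective {X Y : Type*} [AddCommGroup X] [Module F X] [AddCommGroup Y] [Module F Y]
    (E : Y ≃ₗ[F] X) : Function.Injective (conjEq (F := F) E) := fun g h e => LinearEquiv.ext fun v => by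
  have h1 := LinearEquiv.congr_fun e (E.symm v)
  change E.symm (g (E (E.symm v))) = E.symm (h (E (E.symm v))) at h1
  rw [E.apply_symm_apply] at h1
  exact E.symm.injective h1

theorem dickson_conjEq {X Y : Type*} [AddCommGroup X] [Module F X] [AddCommGroup Y] [Module F Y]
    (E : Y ≃ₗ[F] X) (g : X ≃ₗ[F] X) : dickson (conjEq E g) = dickson g := by
  have h : movSpace (conjEq E g) = (movSpace g).map E.symm.toLinearMap := by
    ext v
    constructor
    · rintro ⟨w, rfl⟩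
      exact ⟨E w - g (E w), sub_mem_movSpace g _, by simp [conjEq]⟩
    · rintro ⟨_, ⟨w, rfl⟩, rfl⟩
      exact ⟨E.symm w, by simp [conjEq]⟩
  rw [dickson, dickson, h, LinearEquiv.finrank_map_eq]

theorem dickson_prodMap_one {X Y : Type*} [AddCommGroup X] [Module F X] [AddCommGroup Y] [Module F Y]
    (u : Y ≃ₗ[F] Y) : dickson (prodMap ((1 : X ≃ₗ[F] X), u)) = dickson u := by
  have h : movSpace (prodMap ((1 : X ≃ₗ[F] X), u)) = (movSpace u).map (LinearMap.inr F X Y) := by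
    ext v
    constructor
    · rintro ⟨w, rfl⟩
      exact ⟨w.2 - u w.2, sub_mem_movSpace u _, by ext <;> simp [prodMap]⟩
    · rintro ⟨_, ⟨w, rfl⟩, rfl⟩
      exact ⟨(0, w), by ext <;> simp [prodMap]⟩
  rw [dickson, dickson, h,
    ← LinearEquiv.finrank_eq (Submodule.equivMapOfInjective (LinearMap.inr F X Y) LinearMap.inr_injective _)]

/-- The data realising `n` in both groups. -/
def Realised (a b : F) (n : ℕ) : Prop :=
  (∃ g, g ∈ orth (Q8 a b) ∧ dickson g = 0 ∧ (orderOf g = n ∨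
    (n = 2 * orderOf g ∧ ∃ x, ∀ c, Odd c → ∑ i ∈ Finset.range (orderOf g * c), (g ^ i) x ≠ 0))) ∧
  ∃ h : V8 F ≃ₗ[F] V8 F, (∀ v w, polar (Q8 a b) (h v) (h w) = polar (Q8 a b) v w) ∧ orderOf h = n

variable {φ : F →+ ZMod 2} {a b : F}

theorem dickson_of_odd (hab : ∀ z₁ z₂ : F, z₁ ^ 2 + a * z₁ * z₂ + b * z₂ ^ 2 = 0 → z₁ = 0 ∧ z₂ = 0)
    {g : V8 F ≃ₗ[F] V8 F} (hg : g ∈ orth (Q8 a b)) {r : ℕ} (hr : Odd r) (hgr : g ^ r = 1) :
    dickson g = 0 := by
  have h := congrArg (dicksonHom (Q8_nondeg hab) (Q8_refl hab))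
    (show (⟨g, hg⟩ : orth (Q8 a b)) ^ r = 1 from Subtype.ext hgr)
  rw [map_pow, map_one] at h
  have h' : (r : ℕ) • dickson g = 0 := congrArg Multiplicative.toAdd h
  obtain ⟨k, rfl⟩ := hr
  rw [succ_nsmul, mul_nsmul', two_nsmul, CharTwo.add_self_eq_zero] at h'
  simpa using h'

theorem realised_torus (hφ : φ ≠ 0)
    (hab : ∀ z₁ z₂ : F, z₁ ^ 2 + a * z₁ * z₂ + b * z₂ ^ 2 = 0 → z₁ = 0 ∧ z₂ = 0)
    {r : ℕ} (h : HasTorus φ 8 (-(Fintype.card F : ℤ) ^ 4) r) (hr : Odd r) : Realised a b r := by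
  obtain ⟨X, _, _, _, _, Q, hQ, hn, hG, g, hg, hgr⟩ := h
  obtain ⟨E, hE⟩ := exists_isometry hφ 3 hab Q hQ hn hG
  have hEv : ∀ v, Q (E v) = Q8 a b v := fun v => (hE v).trans (Q8_apply a b v).symm
  have hmem : conjEq E g ∈ orth (Q8 a b) := fun v => by
    rw [← hEv, ← hEv]
    show Q (E (E.symm (g (E v)))) = _
    rw [E.apply_symm_apply, mem_orth.1 hg]
  have ho : orderOf (conjEq E g) = r := by rw [orderOf_injective _ (conjEq_injective E), hgr]
  refine ⟨⟨_, hmem, dickson_of_odd hab hmem hr (by rw [← ho]; exact pow_orderOf_eq_one _), Or.inl ho⟩,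
    _, orth_polar hmem, ho⟩

theorem sum_range_mul_periodic {X : Type*} [AddCommGroup X] [Module F X] (u : X ≃ₗ[F] X) {m : ℕ}
    (hu : u ^ m = 1) (x : X) (k : ℕ) :
    ∑ i ∈ Finset.range (m * k), (u ^ i) x = (k : F) • ∑ i ∈ Finset.range m, (u ^ i) x := by
  induction k with
  | zero => simp
  | succ k ih =>
    rw [mul_add, mul_one, Finset.sum_range_add, ih, Nat.cast_succ, add_smul, one_smul]
    congr 1
    refine Finset.sum_congr rfl fun i _ => ?_
    rw [pow_add, pow_mul, hu, one_pow, one_mul]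

theorem realised_glue (hφ : φ ≠ 0)
    (hab : ∀ z₁ z₂ : F, z₁ ^ 2 + a * z₁ * z₂ + b * z₂ ^ 2 = 0 → z₁ = 0 ∧ z₂ = 0)
    {d d' c r : ℕ} {G G' : ℤ} (h : HasTorus φ d G r) (hr : Odd r) (h' : HasUnip φ d' G' c)
    (hd : d + d' = 8) (hG : G * G' = -(Fintype.card F : ℤ) ^ 4) :
    Realised a b (2 ^ (c + 1) * r) := by
  obtain ⟨X, _, _, _, _, Q, hQ, hn, hGX, g₁, hg₁, hgr⟩ := h
  obtain ⟨Y, _, _, _, _, R, hR, hm, hGY, ⟨u, hu, hud, huo, x, hx⟩, s, hs, hso⟩ := h'
  obtain ⟨E, hE⟩ := exists_isometry hφ 3 hab (Q.prod R) (nondeg_prod hQ hR)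
    (by rw [Module.finrank_prod, hn, hm, hd]) (by rw [gauss_qprod, hGX, hGY, hG])
  have hEv : ∀ v, (Q.prod R) (E v) = Q8 a b v := fun v => (hE v).trans (Q8_apply a b v).symm
  have hmem : ∀ {g : (X × Y) ≃ₗ[F] (X × Y)}, g ∈ orth (Q.prod R) → conjEq E g ∈ orth (Q8 a b) :=
    fun {g} hg v => by
      rw [← hEv, ← hEv]
      show (Q.prod R) (E (E.symm (g (E v)))) = _
      rw [E.apply_symm_apply, mem_orth.1 hg]
  have hcop : ∀ k, Nat.Coprime r (2 ^ k) := fun k => (Nat.coprime_two_right.2 hr).pow_right k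
  let g := conjEq E (prodMap (g₁, u))
  have hgo : orderOf g = r * 2 ^ c := by
    rw [orderOf_injective _ (conjEq_injective E), orderOf_injective _ prodMap_injective,
      Prod.orderOf, hgr, huo, (hcop c).lcm_eq_mul]
  have hgd : dickson g = 0 := by
    have hsplit : g = conjEq E (prodMap (g₁, 1)) * conjEq E (prodMap (1, u)) := by
      rw [← map_mul, ← map_mul, Prod.mk_mul_mk, mul_one, one_mul]
    have m1 := hmem (prodMap_mem hg₁ (one_mem (orth R)))
    have m2 := hmem (prodMap_mem (one_mem (orth Q)) hu)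
    have d1 : dickson (conjEq E (prodMap (g₁, (1 : Y ≃ₗ[F] Y)))) = 0 :=
      dickson_of_odd hab m1 hr (by
        rw [← map_pow, ← map_pow, Prod.pow_mk, ← hgr, pow_orderOf_eq_one, one_pow]
        rw [show ((1 : X ≃ₗ[F] X), (1 : Y ≃ₗ[F] Y)) = 1 from rfl, map_one, map_one])
    have h1 := map_mul (dicksonHom (Q8_nondeg hab) (Q8_refl hab)) ⟨_, m1⟩ ⟨_, m2⟩
    have h2 : dickson g = dickson (conjEq E (prodMap (g₁, (1 : Y ≃ₗ[F] Y)))) +
        dickson (conjEq E (prodMap ((1 : X ≃ₗ[F] X), u))) := by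
      rw [hsplit]; exact congrArg Multiplicative.toAdd h1
    rw [h2, d1, zero_add, dickson_conjEq, dickson_prodMap_one, hud]
  refine ⟨⟨g, hmem (prodMap_mem hg₁ hu), hgd, Or.inr ⟨by rw [hgo]; ring, E.symm (0, x), fun k hk => ?_⟩⟩,
    conjEq E (prodMap (g₁, s)), fun v w => ?_, ?_⟩
  · have hi : ∀ i, (g ^ i) (E.symm (0, x)) = E.symm (0, (u ^ i) x) := fun i => by
      show ((conjEq E (prodMap (g₁, u))) ^ i) _ = _
      rw [← map_pow, ← map_pow, Prod.pow_mk]
      show E.symm (prodMap (g₁ ^ i, u ^ i) (E (E.symm (0, x)))) = _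
      rw [E.apply_symm_apply]
      show E.symm ((g₁ ^ i) 0, (u ^ i) x) = _
      rw [map_zero]
    rw [Finset.sum_congr rfl fun i _ => hi i, ← map_sum, ne_eq, LinearEquiv.map_eq_zero_iff]
    intro h0
    have h1 := congrArg Prod.snd h0
    rw [Prod.snd_sum, hgo, show r * 2 ^ c * k = 2 ^ c * (r * k) by ring,
      sum_range_mul_periodic u (huo ▸ pow_orderOf_eq_one u)] at h1
    have hk1 : ((r * k : ℕ) : F) = 1 := by
      obtain ⟨l, hl⟩ := hr.mul hk
      rw [hl, Nat.cast_add, Nat.cast_mul, Nat.cast_one, Nat.cast_ofNat, CharTwo.two_eq_zero,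
        zero_mul, zero_add]
    rw [hk1, one_smul] at h1
    exact hx h1
  · have hp : ∀ v w, polar (Q8 a b) v w = polar (Q.prod R) (E v) (E w) := fun v w => by
      simp only [polar, ← hEv, map_add]
    rw [hp, hp]
    show polar (Q.prod R) (E (E.symm (prodMap (g₁, s) (E v)))) (E (E.symm (prodMap (g₁, s) (E w)))) = _
    rw [E.apply_symm_apply, E.apply_symm_apply, polar_qprod, polar_qprod]
    show polar Q (g₁ (E v).1) (g₁ (E w).1) + polar R (s (E v).2) (s (E w).2) = _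
    rw [orth_polar hg₁, hs]
  · rw [orderOf_injective _ (conjEq_injective E), orderOf_injective _ prodMap_injective, Prod.orderOf,
      hgr, hso, (hcop _).lcm_eq_mul, mul_comm]

omit [Fintype F] [CharP F 2] in
theorem coprime_pm {q : ℕ} (hq : Even q) {A B : ℕ} (hA : Odd A) (h : ∀ d, d ∣ A → d ∣ B → d ∣ 2) :
    Nat.Coprime A B := by
  refine Nat.coprime_of_dvd fun k hk hkA hkB => ?_
  have h2 : k = 2 := (Nat.prime_dvd_prime_iff_eq hk Nat.prime_two).1 (h k hkA hkB)
  subst h2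
  exact Nat.not_even_iff_odd.2 hA (even_iff_two_dvd.2 hkA)

/-- Every maximal order is realised. -/
theorem realised_top (hφ : φ ≠ 0)
    (hab : ∀ z₁ z₂ : F, z₁ ^ 2 + a * z₁ * z₂ + b * z₂ ^ 2 = 0 → z₁ = 0 ∧ z₂ = 0)
    {cr : ℕ × ℕ} (h : cr ∈ topList (Fintype.card F)) : Realised a b (2 ^ cr.1 * cr.2) := by
  have hodd := top_odd (even_card (F := F)) one_le_q h
  set q := Fintype.card F with hq
  have hev : Even q := even_card
  have hq1 : 1 ≤ q := one_le_q (F := F)
  have s1 := hasTorus_split (F := F) hφ 1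
  have n1 := hasTorus_nonsplit (F := F) hφ 1
  have s2 := hasTorus_split (F := F) hφ 2
  have n2 := hasTorus_nonsplit (F := F) hφ 2
  have s3 := hasTorus_split (F := F) hφ 3
  have n3 := hasTorus_nonsplit (F := F) hφ 3
  have n4 := hasTorus_nonsplit (F := F) hφ 4
  rw [← hq] at s1 n1 s2 n2 s3 n3 n4
  simp only [pow_one, Nat.reduceMul, mul_one] at s1 n1 s2 n2 s3 n3 n4
  have c4 : Nat.Coprime (q ^ 2 + 1) (q ^ 2 - 1) := by
    refine coprime_pm hev (hev.pow_of_ne_zero two_ne_zero).add_one fun d h1 h2 => ?_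
    have := Nat.dvd_sub h1 h2
    rwa [show q ^ 2 + 1 - (q ^ 2 - 1) = 2 by have := Nat.one_le_pow 2 q hq1; omega] at this
  have c2m : Nat.Coprime (q ^ 2 + 1) (q - 1) := by
    refine c4.coprime_dvd_right ?_
    simpa using Nat.sub_dvd_pow_sub_pow q 1 2
  have c2p : Nat.Coprime (q ^ 2 + 1) (q + 1) := by
    refine c4.coprime_dvd_right ?_
    have := Nat.sq_sub_sq q 1
    rw [one_pow] at this
    exact this ▸ dvd_mul_right _ _
  have c3m : Nat.Coprime (q ^ 3 + 1) (q - 1) := by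
    refine coprime_pm hev (hev.pow_of_ne_zero three_ne_zero).add_one fun d h1 h2 => ?_
    have h3 : d ∣ q ^ 3 - 1 := h2.trans (by simpa using Nat.sub_dvd_pow_sub_pow q 1 3)
    have := Nat.dvd_sub h1 h3
    rwa [show q ^ 3 + 1 - (q ^ 3 - 1) = 2 by have := Nat.one_le_pow 3 q hq1; omega] at this
  have c3p : Nat.Coprime (q ^ 3 - 1) (q + 1) := by
    refine coprime_pm hev (Nat.Even.sub_odd (Nat.one_le_pow _ _ hq1)
      (hev.pow_of_ne_zero three_ne_zero) odd_one) fun d h1 h2 => ?_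
    have h3 : d ∣ q ^ 3 + 1 := h2.trans (by
      simpa using Odd.nat_add_dvd_pow_add_pow q 1 (⟨1, rfl⟩ : Odd 3))
    have := Nat.dvd_sub h3 h1
    rwa [show q ^ 3 + 1 - (q ^ 3 - 1) = 2 by have := Nat.one_le_pow 3 q hq1; omega] at this
  simp only [topList, List.mem_cons, List.not_mem_nil, or_false] at h
  rcases h with rfl | rfl | rfl | rfl | rfl | rfl | rfl | rfl | rfl | rfl | rfl | rfl <;> simp only at hodd ⊢
  · exact realised_glue hφ hab s1 hodd (hasUnip_two hφ n1) rfl (by rw [← hq]; ring)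
  · exact realised_glue hφ hab n1 hodd (hasUnip_two hφ s1) rfl (by rw [← hq]; ring)
  · exact realised_glue hφ hab s2 hodd (hasUnip_one hφ n1) rfl (by rw [← hq]; ring)
  · exact realised_glue hφ hab n2 hodd (hasUnip_one hφ s1) rfl (by rw [← hq]; ring)
  · exact realised_glue hφ hab s3 hodd (hasUnip_zero n1) rfl (by rw [← hq]; ring)
  · exact realised_glue hφ hab n3 hodd (hasUnip_zero s1) rfl (by rw [← hq]; ring)
  · have := n2.prod s1
    rw [c2m.lcm_eq_mul] at this
    exact realised_glue hφ hab this hodd (hasUnip_zero s1) rfl (by rw [← hq]; ring)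
  · have := n2.prod n1
    rw [c2p.lcm_eq_mul] at this
    exact realised_glue hφ hab this hodd (hasUnip_zero n1) rfl (by rw [← hq]; ring)
  · rw [pow_zero, one_mul]
    have := n2.prod s2
    rw [c4.lcm_eq_mul, show (q ^ 2 + 1) * (q ^ 2 - 1) = q ^ 4 - 1 by
      rw [← Nat.sq_sub_sq, one_pow, ← pow_mul]] at this
    exact realised_torus hφ hab (by convert this using 1; rw [← hq]; ring) hodd
  · rw [pow_zero, one_mul]
    exact realised_torus hφ hab (by rw [← hq]; exact n4) hodd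
  · rw [pow_zero, one_mul]
    have := n3.prod s1
    rw [c3m.lcm_eq_mul] at this
    exact realised_torus hφ hab (by convert this using 1; rw [← hq]; ring) hodd
  · rw [pow_zero, one_mul]
    have := s3.prod n1
    rw [c3p.lcm_eq_mul] at this
    exact realised_torus hφ hab (by convert this using 1; rw [← hq]; ring) hodd

end CfsgLib.Spec8
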